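/-
Core library: groups of order 48 with a self-centralizing normal quaternion subgroup of order 8.
-/
import Cfsg.Agent.Core.PiNumber
import Cfsg.Agent.PermGroups.RegularLinearNormal
import Cfsg.Agent.S3742
import Cfsg.Agent.Linear.SmallIso
import Cfsg.Agent.Coprime.Conjugacy
import Cfsg.Agent.Coprime.Action

set_option autoImplicit false
set_option linter.style.haveILetI false
set_option linter.unusedSectionVars false

namespace Cfsg.Agent.Core.BinaryOctahedral

open Cfsg

theorem quat_involution : ∀ q : QuaternionGroup 2, q * q = 1 → q ≠ 1 → q = QuaternionGroup.a 2 := by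
  decide +kernel

theorem card_center_quat : Nat.card (Subgroup.center (QuaternionGroup 2)) = 2 := by
  have h : ∀ q : QuaternionGroup 2, (∀ x, x * q = q * x) ↔ q = 1 ∨ q = QuaternionGroup.a 2 := by decide +kernel
  have hne : (1 : QuaternionGroup 2) ≠ QuaternionGroup.a 2 := by decide +kernel
  rw [← SetLike.coe_sort_coe, Nat.card_coe_set_eq,
    show (Subgroup.center (QuaternionGroup 2) : Set (QuaternionGroup 2)) = {1, QuaternionGroup.a 2} from
      Set.ext fun q => by simp [Subgroup.mem_center_iff, h q]]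
  exact Set.ncard_pair hne

theorem exists_pow_lt {G : Type*} [Group G] [Finite G] {x g : G} {n : ℕ} (hx : orderOf x = n)
    (hg : g ∈ Subgroup.zpowers x) : ∃ j < n, x ^ j = g := by
  subst hx
  obtain ⟨j, hj⟩ := (Submonoid.mem_powers_iff _ _).mp ((isOfFinOrder_of_finite x).mem_powers_iff_mem_zpowers.mpr hg)
  exact ⟨j % orderOf x, Nat.mod_lt _ (orderOf_pos x), by rw [pow_mod_orderOf, hj]⟩

theorem exists_fixed_of_six (H : Subgroup (Equiv.Perm (Fin 4))) (hH : Nat.card H = 6) :
    ∃ d : Fin 4, H = MulAction.stabilizer (Equiv.Perm (Fin 4)) d := by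
  haveI := Fact.mk Nat.prime_two
  haveI := Fact.mk Nat.prime_three
  obtain ⟨x, hx⟩ := exists_prime_orderOf_dvd_card' (G := H) 3 (by rw [hH]; norm_num)
  obtain ⟨y, hy⟩ := exists_prime_orderOf_dvd_card' (G := H) 2 (by rw [hH]; norm_num)
  rw [← Subgroup.orderOf_coe] at hx hy
  have hi : ((Subgroup.zpowers (x : Equiv.Perm (Fin 4))).subgroupOf H).index = 2 := by
    have h := ((Subgroup.zpowers (x : Equiv.Perm (Fin 4))).subgroupOf H).card_mul_index
    rw [Nat.card_congr (Subgroup.subgroupOfEquivOfLe (Subgroup.zpowers_le.mpr x.2)).toEquiv,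
      Nat.card_zpowers, hx, hH] at h
    omega
  haveI := Subgroup.normal_of_index_eq_two hi
  have hn : (y : Equiv.Perm (Fin 4)) * x * (y : Equiv.Perm (Fin 4))⁻¹ ∈
      Subgroup.zpowers (x : Equiv.Perm (Fin 4)) :=
    (inferInstance : ((Subgroup.zpowers (x : Equiv.Perm (Fin 4))).subgroupOf H).Normal).conj_mem x
      (Subgroup.mem_zpowers _) y
  obtain ⟨j, hj, hjx⟩ := exists_pow_lt hx hn
  have key : ∀ a b : Equiv.Perm (Fin 4), a ^ 3 = 1 → a ≠ 1 → b ^ 2 = 1 → b ≠ 1 → ∀ j : Fin 3,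
      a ^ (j : ℕ) = b * a * b⁻¹ → ∃ d, a d = d ∧ b d = d := by decide +kernel
  obtain ⟨d, hxd, hyd⟩ := key x y (by rw [← hx, pow_orderOf_eq_one]) (fun e => by simp [e] at hx)
    (by rw [← hy, pow_orderOf_eq_one]) (fun e => by simp [e] at hy) ⟨j, hj⟩ hjx
  refine ⟨d, ?_⟩
  have hst : Nat.card (MulAction.stabilizer (Equiv.Perm (Fin 4)) d) = 6 := by
    have h : ∀ d : Fin 4, Fintype.card {g : Equiv.Perm (Fin 4) // g d = d} = 6 := by decide +kernel
    rw [← h d, ← Nat.card_eq_fintype_card]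
    exact Nat.card_congr (Equiv.subtypeEquivRight fun g => Iff.rfl)
  set K := H ⊓ MulAction.stabilizer (Equiv.Perm (Fin 4)) d
  have h3 : 3 ∣ Nat.card K := hx ▸ Subgroup.orderOf_dvd_natCard K ⟨x.2, hxd⟩
  have h2 : 2 ∣ Nat.card K := hy ▸ Subgroup.orderOf_dvd_natCard K ⟨y.2, hyd⟩
  have h6 : 6 ≤ Nat.card K :=
    Nat.le_of_dvd Nat.card_pos (Nat.Coprime.mul_dvd_of_dvd_of_dvd (by norm_num) h2 h3)
  exact (Subgroup.eq_of_le_of_card_ge (inf_le_left : K ≤ H) (hH.trans_le h6)).symm.trans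
    (Subgroup.eq_of_le_of_card_ge (inf_le_right : K ≤ _) (hst.trans_le h6))

/-- Subgroups of order six of `Aut Q₈` are conjugate. -/
theorem conj_six (R R₀ : Subgroup (MulAut (QuaternionGroup 2))) (hR : Nat.card R = 6) (hR₀ : Nat.card R₀ = 6) :
    ∃ α : MulAut (QuaternionGroup 2), ∀ x ∈ R, α * x * α⁻¹ ∈ R₀ := by
  obtain ⟨e⟩ := Cfsg.Agent.S3742.result
  have hc : ∀ T : Subgroup (MulAut (QuaternionGroup 2)), Nat.card T = 6 → Nat.card (T.map e.toMonoidHom) = 6 :=
    fun T hT => by rw [Subgroup.card_map_of_injective e.injective, hT]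
  obtain ⟨d, hd⟩ := exists_fixed_of_six _ (hc R hR)
  obtain ⟨d₀, hd₀⟩ := exists_fixed_of_six _ (hc R₀ hR₀)
  refine ⟨e.symm (Equiv.swap d d₀), fun x hx => ?_⟩
  have h1 : e x d = d := hd.le ⟨x, hx, rfl⟩
  have h2 : e (e.symm (Equiv.swap d d₀) * x * (e.symm (Equiv.swap d d₀))⁻¹) ∈ R₀.map e.toMonoidHom := by
    rw [hd₀]
    show e (_ * x * _) d₀ = d₀
    simp [Equiv.Perm.mul_apply, h1]
  obtain ⟨y, hy, hye⟩ := h2
  rwa [← e.injective hye]

variable {Q : Type*} [Group Q] [Finite Q] (P : Subgroup Q) [hPn : P.Normal] (e : QuaternionGroup 2 ≃* P)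

/-- The action on the quaternion subgroup. -/
def act : Q →* MulAut (QuaternionGroup 2) :=
  (MulAut.congr e.symm).toMonoidHom.comp MulAut.conjNormal

theorem act_apply (g : Q) (q : QuaternionGroup 2) : (e (act P e g q) : Q) = g * e q * g⁻¹ := by
  simp [act, MulAut.congr, MulAut.conjNormal_apply]

theorem act_eq_one_iff (g : Q) : act P e g = 1 ↔ g ∈ Subgroup.centralizer (P : Set Q) := by
  constructor
  · refine fun h => Subgroup.mem_centralizer_iff.mpr fun v hv => ?_
    have h1 := act_apply P e g (e.symm ⟨v, hv⟩)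
    simp [h] at h1
    exact eq_mul_inv_iff_mul_eq.mp h1
  · refine fun h => MulEquiv.ext fun q => e.injective (Subtype.ext ?_)
    rw [act_apply, MulAut.one_apply, ← Subgroup.mem_centralizer_iff.mp h _ (e q).2, mul_inv_cancel_right]

include e

theorem iso_semidirect (hQ : Nat.card Q = 48) (X : Subgroup Q) (hX : Nat.card X = 6) (hXP : X ⊓ P = ⊥)
    (hXC : X ⊓ Subgroup.centralizer (P : Set Q) = ⊥) (X₀ : Subgroup (MulAut (QuaternionGroup 2)))
    (hX₀ : Nat.card X₀ = 6) : Nonempty ((QuaternionGroup 2) ⋊[X₀.subtype] X₀ ≃* Q) := by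
  have hinj : Function.Injective ((act P e).comp X.subtype) := by
    rw [← MonoidHom.ker_eq_bot_iff, Subgroup.eq_bot_iff_forall]
    exact fun x hx => Subtype.ext (Subgroup.mem_bot.mp (hXC.le ⟨x.2, (act_eq_one_iff P e _).mp hx⟩))
  obtain ⟨α, hα⟩ := conj_six ((act P e).comp X.subtype).range X₀
    (by rw [← Nat.card_congr (MonoidHom.ofInjective hinj).toEquiv, hX]) hX₀
  let ψ : X →* X₀ := ((MulAut.conj α).toMonoidHom.comp ((act P e).comp X.subtype)).codRestrict X₀
    fun x => hα _ ⟨x, rfl⟩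
  have hψ : Function.Injective ψ := fun a b h => hinj ((MulAut.conj α).injective (congrArg Subtype.val h))
  have hψb : Function.Bijective ψ :=
    (Nat.bijective_iff_injective_and_card _).mpr ⟨hψ, by rw [hX, hX₀]⟩
  let Ψ : X ≃* X₀ := MulEquiv.ofBijective ψ hψb
  let f : QuaternionGroup 2 →* Q := P.subtype.comp ((α⁻¹).trans e).toMonoidHom
  let g : X₀ →* Q := X.subtype.comp Ψ.symm.toMonoidHom
  have hcompat : ∀ x : X₀, f.comp (MulEquiv.toMonoidHom (X₀.subtype x)) =
      (MulEquiv.toMonoidHom (MulAut.conj (g x))).comp f := by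
    intro x
    ext q
    have hx : (x : MulAut (QuaternionGroup 2)) = α * act P e (Ψ.symm x : X) * α⁻¹ :=
      congrArg Subtype.val (Ψ.apply_symm_apply x).symm
    show (e (α⁻¹ ((x : MulAut (QuaternionGroup 2)) q)) : Q) =
      (Ψ.symm x : X) * e (α⁻¹ q) * ((Ψ.symm x : X) : Q)⁻¹
    rw [← act_apply, hx]
    simp [MulAut.mul_apply, MulAut.inv_apply_self]
  let L := SemidirectProduct.lift f g hcompat
  refine ⟨MulEquiv.ofBijective L ((Nat.bijective_iff_injective_and_card _).mpr ⟨?_, ?_⟩)⟩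
  · rw [← MonoidHom.ker_eq_bot_iff, Subgroup.eq_bot_iff_forall]
    intro m hm
    rw [MonoidHom.mem_ker, ← SemidirectProduct.inl_left_mul_inr_right m, map_mul] at hm
    simp only [L, SemidirectProduct.lift_inl, SemidirectProduct.lift_inr] at hm
    have h1 : g m.right ∈ P := by
      rw [eq_inv_of_mul_eq_one_right hm]
      exact P.inv_mem (SetLike.coe_mem _)
    have h2 : g m.right = 1 := Subgroup.mem_bot.mp (hXP.le ⟨SetLike.coe_mem _, h1⟩)
    rw [h2, mul_one] at hm
    have hr : m.right = 1 := Ψ.symm.injective (Subtype.ext (h2.trans (by simp)))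
    have hl : m.left = 1 :=
      ((α⁻¹).trans e).injective (Subtype.ext (hm.trans (by simp)))
    exact SemidirectProduct.ext hl hr
  · rw [Nat.card_congr SemidirectProduct.equivProd, Nat.card_prod, Nat.card_eq_fintype_card,
      QuaternionGroup.card, hX₀, hQ]

theorem eq_of_involution {w : Q} (hw : w ∈ P) (h2 : w * w = 1) (h1 : w ≠ 1) :
    w = e (QuaternionGroup.a 2) := by
  have h := quat_involution (e.symm ⟨w, hw⟩) (e.injective (Subtype.ext (by simpa using h2)))
    (fun h => h1 (by simpa using congrArg (fun q => (e q : Q)) h))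
  rw [← h, MulEquiv.apply_symm_apply]

theorem involution_mem_center : (e (QuaternionGroup.a 2) : Q) ∈ Subgroup.center Q := by
  refine Subgroup.mem_center_iff.mpr fun g => ?_
  have hs : QuaternionGroup.a 2 * QuaternionGroup.a 2 = (1 : QuaternionGroup 2) := by decide +kernel
  have hne : QuaternionGroup.a 2 ≠ (1 : QuaternionGroup 2) := by decide +kernel
  have hz : (e (QuaternionGroup.a 2) : Q) * e (QuaternionGroup.a 2) = 1 := by
    rw [← Subgroup.coe_mul, ← map_mul, hs, map_one, Subgroup.coe_one]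
  have hz1 : (e (QuaternionGroup.a 2) : Q) ≠ 1 := fun h => hne (e.injective (Subtype.ext (by simpa using h)))
  have h := eq_of_involution P e (hPn.conj_mem _ (e (QuaternionGroup.a 2)).2 g)
    (by rw [show ∀ z : Q, g * z * g⁻¹ * (g * z * g⁻¹) = g * (z * z) * g⁻¹ from fun z => by group, hz, mul_one,
      mul_inv_cancel])
    (fun h => hz1 (by simpa [conj_eq_one_iff] using h))
  exact mul_inv_eq_iff_eq_mul.mp h

theorem centralizer_eq_center (hC : Subgroup.centralizer (P : Set Q) ≤ P) :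
    Subgroup.centralizer (P : Set Q) = Subgroup.center Q ∧ Nat.card (Subgroup.center Q) = 2 := by
  have h1 : Subgroup.centralizer (P : Set Q) = (Subgroup.center P).map P.subtype := by
    ext g
    constructor
    · intro hg
      exact ⟨⟨g, hC hg⟩, Subgroup.mem_center_iff.mpr fun v =>
        Subtype.ext (Subgroup.mem_centralizer_iff.mp hg v v.2), rfl⟩
    · rintro ⟨v, hv, rfl⟩
      exact Subgroup.mem_centralizer_iff.mpr fun w hw => congrArg Subtype.val (Subgroup.mem_center_iff.mp hv ⟨w, hw⟩)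
  have h2 : Nat.card (Subgroup.centralizer (P : Set Q)) = 2 := by
    rw [h1, Subgroup.card_map_of_injective P.subtype_injective, ← Nat.card_congr (Subgroup.centerCongr e).toEquiv,
      card_center_quat]
  have h3 : Subgroup.centralizer (P : Set Q) = Subgroup.center Q := by
    refine le_antisymm (fun g hg => ?_) (Subgroup.center_le_centralizer _)
    by_cases hg1 : g = 1
    · subst hg1; exact one_mem _
    have h4 : g * g = 1 := by
      have := congrArg Subtype.val (pow_card_eq_one' (x := (⟨g, hg⟩ : Subgroup.centralizer (P : Set Q))))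
      rwa [h2, pow_two] at this
    rw [eq_of_involution P e (hC hg) h4 hg1]
    exact involution_mem_center P e
  exact ⟨h3, h3 ▸ h2⟩

/-- An involution outside `P` inverting an element of order three provides a complement. -/
theorem exists_complement (hC : Subgroup.centralizer (P : Set Q) ≤ P) {t y : Q} (ht : orderOf t = 2)
    (htP : t ∉ P) (hy : orderOf y = 3) (hty : t * y * t⁻¹ = y⁻¹) :
    ∃ X : Subgroup Q, Nat.card X = 6 ∧ X ⊓ P = ⊥ ∧ X ⊓ Subgroup.centralizer (P : Set Q) = ⊥ := by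
  haveI := Fact.mk Nat.prime_two
  haveI := Fact.mk Nat.prime_three
  set A := Subgroup.zpowers y
  set B := Subgroup.zpowers t
  have hBA : B ≤ Subgroup.normalizer (A : Set Q) := by
    refine Subgroup.zpowers_le.mpr (Coprime.mem_normalizer_of_conj_mem fun a ha => ?_)
    obtain ⟨k, rfl⟩ := Subgroup.mem_zpowers_iff.mp ha
    rw [← conj_zpow, hty]
    exact A.zpow_mem (A.inv_mem (Subgroup.mem_zpowers y)) _
  set X := A ⊔ B
  have h3 : 3 ∣ Nat.card X := hy ▸ Subgroup.orderOf_dvd_natCard X (le_sup_left (a := A) (Subgroup.mem_zpowers y))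
  have h2 : 2 ∣ Nat.card X := ht ▸ Subgroup.orderOf_dvd_natCard X (le_sup_right (b := B) (Subgroup.mem_zpowers t))
  have hdis : A ⊓ B = ⊥ := Coprime.inf_eq_bot_of_coprime (by rw [Nat.card_zpowers, Nat.card_zpowers, hy, ht]; norm_num)
  have hX : Nat.card X = 6 := by
    rw [Coprime.card_sup hBA hdis, Nat.card_zpowers, Nat.card_zpowers, hy, ht]
  have hXP : X ⊓ P = ⊥ := by
    rw [Subgroup.eq_bot_iff_forall]
    rintro w ⟨hwX, hwP⟩
    by_contra hw1
    have hd : orderOf w ∣ Nat.gcd 6 8 := Nat.dvd_gcd (hX ▸ Subgroup.orderOf_dvd_natCard X hwX) (by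
      refine (Subgroup.orderOf_dvd_natCard P hwP).trans (dvd_of_eq ?_)
      rw [← Nat.card_congr e.toEquiv, Nat.card_eq_fintype_card, QuaternionGroup.card])
    have hw : w * w = 1 := by rw [← pow_two]; exact orderOf_dvd_iff_pow_eq_one.mp hd
    have hwc : w ∈ Subgroup.center Q := eq_of_involution P e hwP hw hw1 ▸ involution_mem_center P e
    have hV : (Subgroup.zpowers w ⊓ B) = ⊥ := by
      rw [Subgroup.eq_bot_iff_forall]
      rintro v ⟨hv1, hv2⟩
      by_contra hv
      refine htP (Subgroup.zpowers_le.mpr hwP ?_)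
      have hvo : orderOf v = 2 := (Nat.dvd_prime Nat.prime_two).mp
        (ht ▸ Nat.card_zpowers t ▸ Subgroup.orderOf_dvd_natCard B hv2) |>.resolve_left fun h => hv (orderOf_eq_one_iff.mp h)
      have hB : B ≤ Subgroup.zpowers v := (Subgroup.eq_of_le_of_card_ge (Subgroup.zpowers_le.mpr hv2)
        (by rw [Nat.card_zpowers, Nat.card_zpowers, hvo, ht])).ge
      exact (Subgroup.zpowers_le.mpr hv1) (hB (Subgroup.mem_zpowers t))
    have h4 : 4 ∣ Nat.card X := by
      refine dvd_trans (dvd_of_eq ?_) (Subgroup.card_dvd_of_le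
        (sup_le (Subgroup.zpowers_le.mpr hwX) le_sup_right : Subgroup.zpowers w ⊔ B ≤ X))
      rw [Coprime.card_sup ?_ hV, Nat.card_zpowers, Nat.card_zpowers, ht, orderOf_eq_prime (by rw [pow_two, hw]) hw1]
      refine Subgroup.zpowers_le.mpr (Coprime.mem_normalizer_of_conj_mem fun a ha => ?_)
      obtain ⟨k, rfl⟩ := Subgroup.mem_zpowers_iff.mp ha
      rw [← conj_zpow, Subgroup.mem_center_iff.mp hwc t, mul_inv_cancel_right]
      exact Subgroup.zpow_mem _ (Subgroup.mem_zpowers w) _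
    rw [hX] at h4
    norm_num at h4
  exact ⟨X, hX, hXP, eq_bot_iff.mpr ((inf_le_inf_left X hC).trans hXP.le)⟩

omit e in
omit [Group Q] [Finite Q] in
open Matrix in
/-- `GL₂(3)` has the required configuration. -/
theorem exists_gl_config : ∃ (P : Subgroup (GL (Fin 2) (ZMod 3))) (_ : P.Normal) (_ : QuaternionGroup 2 ≃* P)
    (t y : GL (Fin 2) (ZMod 3)), Subgroup.centralizer (P : Set _) ≤ P ∧ t ∉ P ∧ orderOf t = 2 ∧ orderOf y = 3 ∧
      t * y * t⁻¹ = y⁻¹ := by
  let f : QuaternionGroup 2 →* GL (Fin 2) (ZMod 3) :=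
    Matrix.SpecialLinearGroup.toGL.comp Linear.qHom
  have hf : Function.Injective f := fun a b h => Linear.qFun_injective (Subtype.ext (congrArg Units.val h))
  have hv : ∀ q, (f q : Matrix (Fin 2) (Fin 2) (ZMod 3)) = (Linear.qFun q).1 := fun q => rfl
  refine ⟨f.range, ?_, MonoidHom.ofInjective hf, ⟨!![1, 0; 0, 2], !![1, 0; 0, 2], by decide, by decide⟩,
    ⟨!![1, 1; 0, 1], !![1, 2; 0, 1], by decide, by decide⟩, ?_, ?_, ?_, ?_, ?_⟩
  · have key : ∀ g h : Matrix (Fin 2) (Fin 2) (ZMod 3), g * h = 1 → ∀ q : QuaternionGroup 2,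
        ∃ r, (Linear.qFun r).1 = g * (Linear.qFun q).1 * h := by decide +kernel
    refine ⟨?_⟩
    rintro _ ⟨q, rfl⟩ g
    obtain ⟨r, hr⟩ := key g.1 (g⁻¹).1 g.val_inv q
    exact ⟨r, Units.ext ((hv r).trans hr)⟩
  · have key : ∀ g : Matrix (Fin 2) (Fin 2) (ZMod 3), g.det ≠ 0 → (∀ q, (Linear.qFun q).1 * g = g * (Linear.qFun q).1) →
        ∃ r, (Linear.qFun r).1 = g := by decide +kernel
    intro g hg
    obtain ⟨r, hr⟩ := key g.1 ((Matrix.isUnit_iff_isUnit_det g.1).1 g.isUnit).ne_zero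
      fun q => congrArg Units.val (Subgroup.mem_centralizer_iff.mp hg _ ⟨q, rfl⟩)
    exact ⟨r, Units.ext hr⟩
  · rintro ⟨q, hq⟩
    have key : ∀ q, (Linear.qFun q).1 ≠ !![(1 : ZMod 3), 0; 0, 2] := by decide +kernel
    exact key q (congrArg Units.val hq)
  · haveI := Fact.mk Nat.prime_two
    exact orderOf_eq_prime (Units.ext (by decide +kernel)) (by decide +kernel)
  · haveI := Fact.mk Nat.prime_three
    exact orderOf_eq_prime (Units.ext (by decide +kernel)) (by decide +kernel)
  · exact Units.ext (by decide +kernel)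

/-- A split extension of this shape is `GL₂(3)`. -/
theorem iso_gl (hQ : Nat.card Q = 48) (hC : Subgroup.centralizer (P : Set Q) ≤ P)
    {t y : Q} (ht : orderOf t = 2) (htP : t ∉ P) (hy : orderOf y = 3) (hty : t * y * t⁻¹ = y⁻¹) :
    Nonempty (Q ≃* GL (Fin 2) (ZMod 3)) := by
  haveI := Fact.mk Nat.prime_three
  obtain ⟨P', hn', e', t', y', hC', htP', ht', hy', hty'⟩ := exists_gl_config
  haveI := hn'
  obtain ⟨X', hX', hXP', hXC'⟩ := exists_complement P' e' hC' ht' htP' hy' hty'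
  obtain ⟨X, hX, hXP, hXC⟩ := exists_complement P e hC ht htP hy hty
  have h48 : Nat.card (GL (Fin 2) (ZMod 3)) = 48 := by
    rw [Matrix.card_GL_field]; simp [Fin.prod_univ_two]
  have hinj : Function.Injective ((act P' e').comp X'.subtype) := by
    rw [← MonoidHom.ker_eq_bot_iff, Subgroup.eq_bot_iff_forall]
    exact fun x hx => Subtype.ext (Subgroup.mem_bot.mp (hXC'.le ⟨x.2, (act_eq_one_iff P' e' _).mp hx⟩))
  have h6 : Nat.card ((act P' e').comp X'.subtype).range = 6 := by
    rw [← Nat.card_congr (MonoidHom.ofInjective hinj).toEquiv, hX']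
  obtain ⟨a⟩ := iso_semidirect P e hQ X hX hXP hXC _ h6
  obtain ⟨b⟩ := iso_semidirect P' e' h48 X' hX' hXP' hXC' _ h6
  exact ⟨a.symm.trans b⟩

end Cfsg.Agent.Core.BinaryOctahedral
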