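/-
Core library: bounding the order of a group given by generators and relations through a closed finite set of cosets.
-/
import Mathlib

set_option autoImplicit false

namespace Cfsg.Agent.Core.CosetBound

variable {P : Type*} [Group P]

/-- If a finite set `T` of cosets of `H` contains `H` and is stable under a set `S` of generators of `K ≥ H`,
then `|K| ≤ |T| |H|`, and `K` is finite if `H` is. -/
theorem card_le (S : Set P) (H : Subgroup P) [Finite H] (T : Finset (P ⧸ H))
    (h1 : ((1 : P) : P ⧸ H) ∈ T) (hS : ∀ g ∈ S, ∀ t ∈ T, g • t ∈ T) (hHS : H ≤ Subgroup.closure S) :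
    Finite (Subgroup.closure S) ∧ Nat.card (Subgroup.closure S) ≤ T.card * Nat.card H := by
  classical
  have hK : ∀ g ∈ Subgroup.closure S, ∀ t ∈ T, g • t ∈ T := by
    intro g hg
    induction hg using Subgroup.closure_induction with
    | mem x hx => exact hS x hx
    | one => intro t ht; rwa [one_smul]
    | mul x y _ _ hx hy => intro t ht; rw [mul_smul]; exact hx _ (hy _ ht)
    | inv x _ hx =>
      intro t ht
      have hb : T.image (x • ·) = T := Finset.eq_of_subset_of_card_le
        (fun _ hs => by obtain ⟨s, hs', rfl⟩ := Finset.mem_image.mp hs; exact hx s hs')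
        (le_of_eq (Finset.card_image_of_injective _ (MulAction.injective x)).symm)
      rw [← hb] at ht
      obtain ⟨s, hs, rfl⟩ := Finset.mem_image.mp ht
      rwa [inv_smul_smul]
  set K := Subgroup.closure S
  let f : K ⧸ H.subgroupOf K → T := fun q => Quotient.liftOn' q
    (fun g => ⟨((g : P) : P ⧸ H), by
      have := hK g g.2 _ h1
      rwa [MulAction.Quotient.smul_coe, smul_eq_mul, mul_one] at this⟩)
    (fun a b hab => Subtype.ext (QuotientGroup.eq.mpr
      (by simpa [Subgroup.mem_subgroupOf] using QuotientGroup.leftRel_apply.mp hab)))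
  have hf : Function.Injective f := by
    intro a b
    induction a using Quotient.inductionOn' with | _ a => ?_
    induction b using Quotient.inductionOn' with | _ b => ?_
    intro h
    exact QuotientGroup.eq.mpr (Subgroup.mem_subgroupOf.mpr
      (QuotientGroup.eq.mp (congrArg Subtype.val h)))
  haveI : Finite (K ⧸ H.subgroupOf K) := Finite.of_injective f hf
  have hle := Nat.card_le_card_of_injective f hf
  rw [Nat.card_eq_fintype_card (α := T), Fintype.card_coe] at hle
  haveI : Finite (H.subgroupOf K) := Finite.of_equiv H (Subgroup.subgroupOfEquivOfLe hHS).symm.toEquiv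
  haveI : Finite K := Finite.of_equiv _ (Subgroup.groupEquivQuotientProdSubgroup (s := H.subgroupOf K)).symm
  refine ⟨inferInstance, ?_⟩
  rw [Subgroup.card_eq_card_quotient_mul_card_subgroup (H.subgroupOf K),
    Nat.card_congr (Subgroup.subgroupOfEquivOfLe hHS).toEquiv]
  exact Nat.mul_le_mul_right _ hle

/-- The same for a group generated by `S`. -/
theorem card_le_of_closure_eq_top (S : Set P) (hS1 : Subgroup.closure S = ⊤) (H : Subgroup P) [Finite H]
    (T : Finset (P ⧸ H)) (h1 : ((1 : P) : P ⧸ H) ∈ T) (hS : ∀ g ∈ S, ∀ t ∈ T, g • t ∈ T) :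
    Finite P ∧ Nat.card P ≤ T.card * Nat.card H := by
  obtain ⟨hf, hc⟩ := card_le S H T h1 hS (hS1.symm ▸ le_top)
  rw [hS1] at hf hc
  rw [Subgroup.card_top] at hc
  exact ⟨Finite.of_equiv _ Subgroup.topEquiv.toEquiv, hc⟩

end Cfsg.Agent.Core.CosetBound
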