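/-
Core library: Carmichael's presentation of the alternating groups.
-/
import Cfsg.Agent.Core.CosetBound
import Mathlib

set_option autoImplicit false
set_option linter.style.haveILetI false
set_option linter.unusedSectionVars false

namespace Cfsg.Agent.Core.AltPres

variable {P : Type*} [Group P]

theorem commute_of_invol {a b : P} (ha : a * a = 1) (hb : b * b = 1) (h : (a * b) ^ 2 = 1) :
    a * b = b * a := by
  rw [pow_two] at h
  calc a * b = (a * b)⁻¹ := (inv_eq_of_mul_eq_one_right h).symm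
    _ = b * a := by rw [mul_inv_rev, inv_eq_of_mul_eq_one_right ha, inv_eq_of_mul_eq_one_right hb]

theorem braid_invol {a b : P} (ha : a * a = 1) (hb : b * b = 1) (h : (a * b) ^ 3 = 1) :
    b * a * b = a * b * a := by
  have e : (a * b * a) * (b * a * b) = 1 := by rw [← h]; simp [pow_succ, mul_assoc]
  rw [← inv_eq_of_mul_eq_one_right e, mul_inv_rev, mul_inv_rev, inv_eq_of_mul_eq_one_right ha,
    inv_eq_of_mul_eq_one_right hb, mul_assoc]

theorem braid_three {a b : P} (ha : a ^ 3 = 1) (hb : b * b = 1) (h : (a * b) ^ 3 = 1) :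
    b * a * b = a ^ 2 * b * a ^ 2 ∧ b * a ^ 2 * b = a * b * a := by
  have hai : a⁻¹ = a ^ 2 := inv_eq_of_mul_eq_one_right (by rw [← pow_succ', ha])
  have hai2 : (a ^ 2)⁻¹ = a := by rw [← hai, inv_inv]
  have hbi : b⁻¹ = b := inv_eq_of_mul_eq_one_right hb
  have e : (a * b * a) * (b * a * b) = 1 := by rw [← h]; simp [pow_succ, mul_assoc]
  have h1 : b * a * b = a ^ 2 * b * a ^ 2 := by
    rw [← inv_eq_of_mul_eq_one_right e, mul_inv_rev, mul_inv_rev, hai, hbi, mul_assoc]
  refine ⟨h1, ?_⟩
  have h2 := congrArg (·⁻¹) h1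
  simp only [mul_inv_rev, hai2, hbi, hai] at h2
  rw [mul_assoc, h2, mul_assoc]

variable (x : ℕ → P) (m : ℕ)

/-- The subgroup generated by the first `k` generators. -/
def gen (k : ℕ) : Subgroup P := Subgroup.closure (x '' Set.Icc 1 k)

/-- The Carmichael relations. -/
structure Rels : Prop where
  cube : 1 ≤ m → x 1 ^ 3 = 1
  sq : ∀ i, 2 ≤ i → i ≤ m → x i * x i = 1
  adj : ∀ i, 1 ≤ i → i + 1 ≤ m → (x i * x (i + 1)) ^ 3 = 1
  far : ∀ i j, 1 ≤ i → i + 1 < j → j ≤ m → (x i * x j) ^ 2 = 1

theorem mem_gen {i k : ℕ} (h1 : 1 ≤ i) (h2 : i ≤ k) : x i ∈ gen x k :=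
  Subgroup.subset_closure ⟨i, ⟨h1, h2⟩, rfl⟩

theorem card_gen_le (R : Rels x m) : ∀ k, k ≤ m →
    Finite (gen x k) ∧ 2 * Nat.card (gen x k) ≤ (k + 2).factorial := by
  classical
  intro k
  induction k with
  | zero =>
    intro _
    have : gen x 0 = ⊥ := by simp [gen]
    rw [this]
    refine ⟨inferInstance, ?_⟩
    rw [Subgroup.card_bot]; decide
  | succ k ih =>
    intro hn
    obtain ⟨hfin, hcard⟩ := ih (by omega)
    set H := gen x k with hH
    haveI := hfin
    set n := k + 1 with hndef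
    let w : ℕ → P := fun j => ((List.range' j (n + 1 - j)).map x).prod
    have hwtop : w (n + 1) = 1 := by simp [w]
    have hw : ∀ j, j ≤ n → w j = x j * w (j + 1) := by
      intro j hj
      simp only [w, show n + 1 - j = (n + 1 - (j + 1)) + 1 by omega, List.range'_succ, List.map_cons,
        List.prod_cons]
    have hsq : ∀ i, 2 ≤ i → i ≤ n → x i * x i = 1 := fun i h1 h2 => R.sq i h1 (by omega)
    have hcomm : ∀ i j, 2 ≤ i → 2 ≤ j → (i + 1 < j ∨ j + 1 < i) → i ≤ n → j ≤ n → x i * x j = x j * x i := by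
      intro i j h1 h2 h hi hj
      rcases h with h | h
      · exact commute_of_invol (hsq i h1 hi) (hsq j h2 hj) (R.far i j (by omega) h (by omega))
      · exact (commute_of_invol (hsq j h2 hj) (hsq i h1 hi) (R.far j i (by omega) h (by omega))).symm
    have hsemi : ∀ j, 3 ≤ j → j ≤ n → ∀ e : ℕ, x j * x 1 ^ e = x 1 ^ (2 * e) * x j := by
      intro j h1 h2 e
      have hj2 := hsq j (by omega) h2
      have hf := R.far 1 j le_rfl (by omega) (by omega)
      have h3 := R.cube (by omega)
      have h : SemiconjBy (x j) (x 1) (x 1 ^ 2) := by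
        show x j * x 1 = x 1 ^ 2 * x j
        have e1 : x 1 * (x j * x 1 * x j) = 1 := by rw [← hf, pow_two]; group
        have e2 : x j * x 1 * x j = x 1 ^ 2 := by
          rw [← inv_eq_of_mul_eq_one_right e1]
          exact inv_eq_of_mul_eq_one_right (by rw [← pow_succ', h3])
        rw [← e2, mul_assoc _ (x j) (x j), hj2, mul_one]
      have := (h.pow_right e).eq
      rwa [← pow_mul] at this
    have hA : ∀ d i j, j + d = n + 1 → 2 ≤ i → i + 1 < j → x i * w j = w j * x i := by
      intro d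
      induction d with
      | zero => intro i j hd _ _; rw [show j = n + 1 by omega, hwtop, mul_one, one_mul]
      | succ d ihd =>
        intro i j hd h1 h2
        rw [hw j (by omega), ← mul_assoc, hcomm i j h1 (by omega) (Or.inl h2) (by omega) (by omega),
          mul_assoc, ihd i (j + 1) (by omega) h1 (by omega), ← mul_assoc]
    have hB : ∀ d j, j + d = n + 1 → 3 ≤ j → ∀ e : ℕ, ∃ e' : ℕ, x 1 ^ e * w j = w j * x 1 ^ e' := by
      intro d
      induction d with
      | zero => intro j hd _ e; exact ⟨e, by rw [show j = n + 1 by omega, hwtop, mul_one, one_mul]⟩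
      | succ d ihd =>
        intro j hd h1 e
        obtain ⟨e', he'⟩ := ihd (j + 1) (by omega) (by omega) (2 * e)
        refine ⟨e', ?_⟩
        have h4 : x 1 ^ e = x 1 ^ (2 * (2 * e)) := by
          rw [show 2 * (2 * e) = 3 * e + e by ring, pow_add, pow_mul, R.cube (by omega), one_pow, one_mul]
        rw [hw j (by omega), ← mul_assoc, h4, ← hsemi j h1 (by omega) (2 * e), mul_assoc, he', ← mul_assoc]
    have hC : ∀ d i j, j + 1 + d = i → 2 ≤ j → i ≤ n → x i * w j = w j * x (i - 1) := by
      intro d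
      induction d with
      | zero =>
        intro i j hd h1 h2
        subst hd
        simp only [Nat.add_zero, Nat.add_sub_cancel] at h2 ⊢
        rw [hw j (by omega), hw (j + 1) h2, ← mul_assoc, ← mul_assoc,
          braid_invol (hsq j h1 (by omega)) (hsq (j + 1) (by omega) h2) (R.adj j (by omega) (by omega)),
          mul_assoc _ (x j), hA (n + 1 - (j + 2)) j (j + 2) (by omega) h1 (by omega)]
        group
      | succ d ihd =>
        intro i j hd h1 h2
        rw [hw j (by omega), ← mul_assoc, hcomm i j (by omega) h1 (Or.inr (by omega)) h2 (by omega),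
          mul_assoc, ihd i (j + 1) (by omega) (by omega) h2, ← mul_assoc]
    let D : ℕ → P ⧸ H := fun j => ((w j : P) : P ⧸ H)
    let E : P ⧸ H := ((x 1 ^ 2 * w 2 : P) : P ⧸ H)
    let T : Finset (P ⧸ H) := insert E ((Finset.Icc 1 (n + 1)).image D)
    have hE : E ∈ T := Finset.mem_insert_self _ _
    have hD : ∀ j, 1 ≤ j → j ≤ n + 1 → D j ∈ T := fun j h1 h2 =>
      Finset.mem_insert_of_mem (Finset.mem_image_of_mem _ (Finset.mem_Icc.mpr ⟨h1, h2⟩))
    have hmk : ∀ (g h : P), h ∈ H → ((g * h : P) : P ⧸ H) = (g : P ⧸ H) := fun g h hh =>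
      QuotientGroup.eq.mpr (by simpa using inv_mem hh)
    have hx1pow : 2 ≤ n → ∀ e : ℕ, x 1 ^ e ∈ H := fun h e => pow_mem (mem_gen x le_rfl (by omega)) e
    have hstab : ∀ g ∈ x '' Set.Icc 1 n, ∀ t ∈ T, g • t ∈ T := by
      rintro _ ⟨i, ⟨hi1, hi2⟩, rfl⟩ t ht
      rcases Finset.mem_insert.mp ht with rfl | ht
      · show ((x i * (x 1 ^ 2 * w 2) : P) : P ⧸ H) ∈ T
        rcases Nat.lt_or_ge i 2 with h | h
        · rw [show i = 1 by omega, ← mul_assoc, ← pow_succ', R.cube (by omega), one_mul]
          exact hD 2 (by omega) (by omega)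
        rcases Nat.lt_or_ge i 3 with h' | h'
        · obtain rfl : i = 2 := by omega
          obtain ⟨-, hb⟩ := braid_three (R.cube (by omega)) (hsq 2 le_rfl hi2) (R.adj 1 le_rfl (by omega))
          obtain ⟨e', he'⟩ := hB (n + 1 - 3) 3 (by omega) le_rfl 1
          rw [hw 2 hi2, show x 2 * (x 1 ^ 2 * (x 2 * w 3)) = x 2 * x 1 ^ 2 * x 2 * w 3 by group, hb,
            mul_assoc _ (x 1) (w 3), show x 1 * w 3 = w 3 * x 1 ^ e' by rw [← he', pow_one], ← mul_assoc,
            hmk _ _ (hx1pow hi2 e'), mul_assoc, ← hw 2 hi2, ← hw 1 (by omega)]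
          exact hD 1 le_rfl (by omega)
        · have e1 : x i * x 1 ^ 2 = x 1 * x i := by
            rw [hsemi i h' hi2 2, show 2 * 2 = 3 + 1 from rfl, pow_add, R.cube (by omega), one_mul, pow_one]
          rw [← mul_assoc, e1, mul_assoc, hC (i - 3) i 2 (by omega) le_rfl hi2, ← mul_assoc,
            hmk _ _ (mem_gen x (by omega) (by omega)), ← hw 1 (by omega)]
          exact hD 1 le_rfl (by omega)
      obtain ⟨j, hj, rfl⟩ := Finset.mem_image.mp ht
      obtain ⟨hj1, hj2⟩ := Finset.mem_Icc.mp hj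
      show ((x i * w j : P) : P ⧸ H) ∈ T
      rcases Nat.lt_or_ge i 2 with h | h
      · obtain rfl : i = 1 := by omega
        rcases Nat.lt_or_ge j 2 with h' | h'
        · rw [show j = 1 by omega, hw 1 (by omega), ← mul_assoc, ← pow_two]
          exact hE
        rcases Nat.lt_or_ge j 3 with h'' | h''
        · rw [show j = 2 by omega, ← hw 1 (by omega)]
          exact hD 1 le_rfl (by omega)
        · obtain ⟨e', he'⟩ := hB (n + 1 - j) j (by omega) h'' 1
          rw [pow_one] at he'
          rw [he', hmk _ _ (hx1pow (by omega) e')]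
          exact hD j hj1 hj2
      rcases lt_trichotomy j i with h' | h' | h'
      · rcases Nat.lt_or_ge j 2 with h'' | h''
        · obtain rfl : j = 1 := by omega
          rcases Nat.lt_or_ge i 3 with h3 | h3
          · obtain rfl : i = 2 := by omega
            obtain ⟨hb, -⟩ := braid_three (R.cube (by omega)) (hsq 2 le_rfl hi2) (R.adj 1 le_rfl (by omega))
            obtain ⟨e', he'⟩ := hB (n + 1 - 3) 3 (by omega) le_rfl 2
            rw [hw 1 (by omega), hw 2 hi2, show x 2 * (x 1 * (x 2 * w 3)) = x 2 * x 1 * x 2 * w 3 by group, hb,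
              mul_assoc _ (x 1 ^ 2) (w 3), he', ← mul_assoc, hmk _ _ (hx1pow hi2 e'), mul_assoc, ← hw 2 hi2]
            exact hE
          · have e1 : x i * x 1 = x 1 ^ 2 * x i := by
              have := hsemi i h3 hi2 1
              rwa [pow_one, mul_one] at this
            rw [hw 1 (by omega), ← mul_assoc, e1, mul_assoc, hC (i - 3) i 2 (by omega) le_rfl hi2, ← mul_assoc,
              hmk _ _ (mem_gen x (by omega) (by omega))]
            exact hE
        · rw [hC (i - j - 1) i j (by omega) h'' hi2, hmk _ _ (mem_gen x (by omega) (by omega))]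
          exact hD j hj1 hj2
      · rw [h', hw i hi2, ← mul_assoc, hsq i h hi2, one_mul]
        exact hD (i + 1) (by omega) (by omega)
      · rcases Nat.lt_or_ge (i + 1) j with h'' | h''
        · rw [hA (n + 1 - j) i j (by omega) h h'', hmk _ _ (mem_gen x hi1 (by omega))]
          exact hD j hj1 hj2
        · rw [show j = i + 1 by omega, ← hw i hi2]
          exact hD i hi1 (by omega)
    have hone : ((1 : P) : P ⧸ H) ∈ T := by
      have := hD (n + 1) (by omega) le_rfl
      simpa [D, hwtop] using this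
    have hsub : H ≤ Subgroup.closure (x '' Set.Icc 1 n) :=
      Subgroup.closure_mono (Set.image_mono (Set.Icc_subset_Icc le_rfl (by omega)))
    obtain ⟨h1, h2⟩ := CosetBound.card_le _ H T hone hstab hsub
    refine ⟨h1, ?_⟩
    have hT : T.card ≤ n + 2 := (Finset.card_insert_le _ _).trans (Nat.succ_le_succ
      (Finset.card_image_le.trans (by simp)))
    calc 2 * Nat.card (gen x n) ≤ 2 * (T.card * Nat.card H) := Nat.mul_le_mul_left _ h2
      _ ≤ (n + 2) * (2 * Nat.card H) := by
        rw [mul_left_comm]; exact Nat.mul_le_mul_right _ hT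
      _ ≤ (n + 2) * (k + 2).factorial := Nat.mul_le_mul_left _ hcard
      _ = (n + 2).factorial := rfl

/-! ### The isomorphism -/

open Equiv

variable {k : ℕ}

/-- The adjacent transposition `(i, i + 1)`. -/
def adjSwap (i : Fin (k + 2)) : Perm (Fin (k + 3)) := Equiv.swap i.castSucc i.succ

/-- The image of the `i`-th generator. -/
def img (i : Fin (k + 1)) : alternatingGroup (Fin (k + 3)) :=
  ⟨adjSwap 0 * adjSwap i.succ, Equiv.Perm.mem_alternatingGroup.mpr (by
    rw [map_mul, adjSwap, adjSwap, Equiv.Perm.sign_swap (Fin.castSucc_lt_succ).ne,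
      Equiv.Perm.sign_swap (Fin.castSucc_lt_succ).ne]; rfl)⟩

theorem adjSwap_sq (i : Fin (k + 2)) : adjSwap i * adjSwap i = 1 := Equiv.swap_mul_self _ _

theorem adjSwap_comm {i j : Fin (k + 2)} (h : i.val + 1 < j.val) :
    Commute (adjSwap i) (adjSwap j) := by
  refine Perm.Disjoint.commute ?_
  rw [Perm.disjoint_iff_disjoint_support, adjSwap, adjSwap, Perm.support_swap (Fin.castSucc_lt_succ).ne,
    Perm.support_swap (Fin.castSucc_lt_succ).ne]
  simp [Fin.ext_iff]
  omega

theorem cube_swap {a b c : Fin (k + 3)} (hab : a ≠ b) (hac : a ≠ c) (hbc : b ≠ c) :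
    (Equiv.swap a b * Equiv.swap b c) ^ 3 = 1 := by
  rw [Equiv.swap_comm a b]
  have h := (Equiv.Perm.isThreeCycle_swap_mul_swap_same hab.symm hbc hac).orderOf
  exact orderOf_dvd_iff_pow_eq_one.mp h.dvd

theorem adjSwap_conj_zero (j : Fin (k + 2)) :
    adjSwap 0 * adjSwap j * adjSwap 0 =
      Equiv.swap (adjSwap 0 j.castSucc) (adjSwap 0 j.succ) := by
  conv_rhs => rw [Equiv.swap_apply_apply]
  rw [show (adjSwap (k := k) 0)⁻¹ = adjSwap 0 from inv_eq_of_mul_eq_one_right (adjSwap_sq 0)]
  rfl

theorem img_prod_one {j : Fin (k + 1)} (hj : 1 ≤ j.val) :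
    adjSwap 0 * adjSwap (Fin.succ 0) * (adjSwap 0 * adjSwap j.succ) =
      Equiv.swap (0 : Fin (k + 3)) ⟨2, by omega⟩ * adjSwap j.succ := by
  rw [← mul_assoc, adjSwap_conj_zero]
  congr 2

theorem img_prod {i j : Fin (k + 1)} (hi : 1 ≤ i.val) :
    adjSwap 0 * adjSwap i.succ * (adjSwap 0 * adjSwap j.succ) = adjSwap i.succ * adjSwap j.succ := by
  rw [(adjSwap_comm (i := 0) (j := i.succ) (by simp only [Fin.val_succ, Fin.val_zero] at *; omega)).eq, mul_assoc, ← mul_assoc (adjSwap 0),
    adjSwap_sq, one_mul]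

theorem img_rels {r : FreeGroup (Fin (k + 1))}
    (hr : r ∈ ({g : FreeGroup (Fin (k + 1)) | ∃ i : Fin (k + 1), i.val = 0 ∧ g = FreeGroup.of i ^ 3} ∪
       {g | ∃ i : Fin (k + 1), 1 ≤ i.val ∧ g = FreeGroup.of i ^ 2} ∪
       {g | ∃ i j : Fin (k + 1), j.val = i.val + 1 ∧ g = (FreeGroup.of i * FreeGroup.of j) ^ 3} ∪
       {g | ∃ i j : Fin (k + 1), i.val + 1 < j.val ∧ g = (FreeGroup.of i * FreeGroup.of j) ^ 2})) :
    FreeGroup.lift img r = 1 := by
  apply Subtype.ext
  rcases hr with ((⟨i, hi, rfl⟩ | ⟨i, hi, rfl⟩) | ⟨i, j, hij, rfl⟩) | ⟨i, j, hij, rfl⟩ <;>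
    simp only [map_pow, map_mul, FreeGroup.lift_apply_of, SubgroupClass.coe_pow, Subgroup.coe_mul,
      OneMemClass.coe_one, img]
  · obtain rfl : i = 0 := Fin.ext hi
    exact cube_swap (Fin.ne_of_val_ne (by simp only [Fin.val_castSucc, Fin.val_succ, Fin.val_zero] at *; omega)) (Fin.ne_of_val_ne (by simp only [Fin.val_castSucc, Fin.val_succ, Fin.val_zero] at *; omega)) (Fin.ne_of_val_ne (by simp only [Fin.val_castSucc, Fin.val_succ, Fin.val_zero] at *; omega))
  · rw [(adjSwap_comm (i := 0) (j := i.succ) (by simp only [Fin.val_succ, Fin.val_zero] at *; omega)).mul_pow, pow_two, pow_two,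
      adjSwap_sq, adjSwap_sq, one_mul]
  · by_cases h : i.val = 0
    · obtain rfl : i = 0 := Fin.ext h
      rw [img_prod_one (by omega)]
      have e : (Fin.castSucc j.succ : Fin (k + 3)) = ⟨2, by omega⟩ := by
        exact Fin.ext (by simp only [Fin.val_castSucc, Fin.val_succ, Fin.val_zero] at *; omega)
      rw [adjSwap, e]
      exact cube_swap (Fin.ne_of_val_ne (by simp only [Fin.val_castSucc, Fin.val_succ, Fin.val_zero] at *; omega)) (Fin.ne_of_val_ne (by simp only [Fin.val_castSucc, Fin.val_succ, Fin.val_zero] at *; omega))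
        (Fin.ne_of_val_ne (by simp only [Fin.val_castSucc, Fin.val_succ, Fin.val_zero] at *; omega))
    · rw [img_prod (by omega)]
      have e : (i.succ).succ = (j.succ).castSucc :=
        Fin.ext (by simp only [Fin.val_castSucc, Fin.val_succ] at *; omega)
      rw [adjSwap, adjSwap, ← e]
      exact cube_swap (Fin.castSucc_lt_succ).ne (Fin.ne_of_val_ne (by simp only [Fin.val_castSucc, Fin.val_succ, Fin.val_zero] at *; omega)) (Fin.ne_of_val_ne (by simp only [Fin.val_castSucc, Fin.val_succ, Fin.val_zero] at *; omega))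
  · by_cases h : i.val = 0
    · obtain rfl : i = 0 := Fin.ext h
      rw [img_prod_one (by omega)]
      have hd : Commute (Equiv.swap (0 : Fin (k + 3)) ⟨2, by omega⟩) (adjSwap j.succ) := by
        refine Perm.Disjoint.commute ?_
        rw [Perm.disjoint_iff_disjoint_support, adjSwap, Perm.support_swap (Fin.ne_of_val_ne (by simp only [Fin.val_castSucc, Fin.val_succ, Fin.val_zero] at *; omega)),
          Perm.support_swap (Fin.castSucc_lt_succ).ne]
        simp only [Finset.disjoint_left, Finset.mem_insert, Finset.mem_singleton, Fin.ext_iff,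
          Fin.val_castSucc, Fin.val_succ, Fin.val_zero] at *
        intro a ha
        omega
      rw [hd.mul_pow, pow_two, pow_two, Equiv.swap_mul_self, adjSwap_sq, one_mul]
    · rw [img_prod (by omega)]
      rw [(adjSwap_comm (i := i.succ) (j := j.succ) (by simp only [Fin.val_succ, Fin.val_zero] at *; omega)).mul_pow, pow_two, pow_two,
        adjSwap_sq, adjSwap_sq, one_mul]

theorem presented_iso (k : ℕ) : Nonempty (PresentedGroup
      ({g : FreeGroup (Fin (k + 1)) | ∃ i : Fin (k + 1), i.val = 0 ∧ g = FreeGroup.of i ^ 3} ∪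
       {g | ∃ i : Fin (k + 1), 1 ≤ i.val ∧ g = FreeGroup.of i ^ 2} ∪
       {g | ∃ i j : Fin (k + 1), j.val = i.val + 1 ∧ g = (FreeGroup.of i * FreeGroup.of j) ^ 3} ∪
       {g | ∃ i j : Fin (k + 1), i.val + 1 < j.val ∧ g = (FreeGroup.of i * FreeGroup.of j) ^ 2})
      ≃* alternatingGroup (Fin (k + 3))) := by
  classical
  set rels := ({g : FreeGroup (Fin (k + 1)) | ∃ i : Fin (k + 1), i.val = 0 ∧ g = FreeGroup.of i ^ 3} ∪
       {g | ∃ i : Fin (k + 1), 1 ≤ i.val ∧ g = FreeGroup.of i ^ 2} ∪
       {g | ∃ i j : Fin (k + 1), j.val = i.val + 1 ∧ g = (FreeGroup.of i * FreeGroup.of j) ^ 3} ∪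
       {g | ∃ i j : Fin (k + 1), i.val + 1 < j.val ∧ g = (FreeGroup.of i * FreeGroup.of j) ^ 2})
  let x : ℕ → PresentedGroup rels := fun i =>
    if h : i - 1 < k + 1 then PresentedGroup.of ⟨i - 1, h⟩ else 1
  have hx : ∀ i (h : i - 1 < k + 1), x i = PresentedGroup.of ⟨i - 1, h⟩ := fun i h => dif_pos h
  have R : Rels x (k + 1) :=
    { cube := fun _ => by
        rw [hx 1 (by omega)]
        exact PresentedGroup.one_of_mem (Or.inl (Or.inl (Or.inl ⟨_, rfl, rfl⟩)))
      sq := fun i h1 h2 => by
        rw [hx i (by omega), ← pow_two]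
        exact PresentedGroup.one_of_mem (Or.inl (Or.inl (Or.inr ⟨_, by simp; omega, rfl⟩)))
      adj := fun i h1 h2 => by
        rw [hx i (by omega), hx (i + 1) (by omega)]
        exact PresentedGroup.one_of_mem (Or.inl (Or.inr ⟨_, _, by simp; omega, rfl⟩))
      far := fun i j h1 h2 h3 => by
        rw [hx i (by omega), hx j (by omega)]
        exact PresentedGroup.one_of_mem (Or.inr ⟨_, _, by simp; omega, rfl⟩) }
  have htop : gen x (k + 1) = ⊤ := by
    refine top_le_iff.mp ((PresentedGroup.closure_range_of rels).ge.trans ((Subgroup.closure_le _).mpr ?_))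
    rintro _ ⟨i, rfl⟩
    have := mem_gen x (i := i.val + 1) (k := k + 1) (by omega) (by omega)
    rwa [hx _ (by omega)] at this
  obtain ⟨hfin, hcard⟩ := card_gen_le x (k + 1) R (k + 1) le_rfl
  rw [htop] at hfin hcard
  haveI : Finite (PresentedGroup rels) := Finite.of_equiv _ Subgroup.topEquiv.toEquiv
  rw [Subgroup.card_top] at hcard
  set f : PresentedGroup rels →* alternatingGroup (Fin (k + 3)) :=
    PresentedGroup.toGroup (f := img) (fun r hr => img_rels hr)
  set S : Subgroup (Perm (Fin (k + 3))) := f.range.map (alternatingGroup (Fin (k + 3))).subtype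
  have himg : ∀ i : Fin (k + 1), adjSwap 0 * adjSwap i.succ ∈ S := fun i =>
    ⟨img i, ⟨PresentedGroup.of i, by simp [f]⟩, rfl⟩
  have hcover : ∀ g : Perm (Fin (k + 3)), g ∈ S ∨ adjSwap 0 * g ∈ S := by
    intro g
    have hg : g ∈ Submonoid.closure (Set.range fun i : Fin (k + 2) => Equiv.swap i.castSucc i.succ) := by
      rw [Equiv.Perm.mclosure_swap_castSucc_succ]; trivial
    induction hg using Submonoid.closure_induction_left with
    | one => exact Or.inl (one_mem _)
    | mul_left u hu v _ hv =>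
      obtain ⟨i, rfl⟩ := hu
      show adjSwap i * v ∈ S ∨ _
      induction i using Fin.cases with
      | zero =>
        rcases hv with hv | hv
        · exact Or.inr (by
            show adjSwap 0 * (adjSwap 0 * v) ∈ S
            rw [← mul_assoc, adjSwap_sq, one_mul]; exact hv)
        · exact Or.inl hv
      | succ i =>
        rcases hv with hv | hv
        · exact Or.inr (by
            show adjSwap 0 * (adjSwap i.succ * v) ∈ S
            rw [← mul_assoc]; exact S.mul_mem (himg i) hv)
        · refine Or.inl ?_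
          have h := S.mul_mem (S.inv_mem (himg i)) hv
          rwa [mul_inv_rev, inv_eq_of_mul_eq_one_right (adjSwap_sq i.succ),
            inv_eq_of_mul_eq_one_right (adjSwap_sq 0), mul_assoc, ← mul_assoc (adjSwap 0), adjSwap_sq,
            one_mul] at h
  have hsurj : Function.Surjective f := fun g => by
    rcases hcover g with ⟨a, ⟨p, rfl⟩, ha⟩ | ⟨a, -, ha⟩
    · exact ⟨p, Subtype.ext ha⟩
    · exfalso
      have h1 : Equiv.Perm.sign (a : Perm (Fin (k + 3))) = 1 := Equiv.Perm.mem_alternatingGroup.mp a.2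
      rw [show (a : Perm (Fin (k + 3))) = adjSwap 0 * (g : Perm (Fin (k + 3))) from ha, map_mul, adjSwap,
        Equiv.Perm.sign_swap (Fin.castSucc_lt_succ).ne, Equiv.Perm.mem_alternatingGroup.mp g.2] at h1
      exact absurd h1 (by decide)
  haveI : Nontrivial (Fin (k + 3)) := Fin.nontrivial_iff_two_le.mpr (by omega)
  have hA : 2 * Nat.card (alternatingGroup (Fin (k + 3))) = (k + 3).factorial := by
    rw [Nat.card_eq_fintype_card, two_mul_card_alternatingGroup, Fintype.card_perm, Fintype.card_fin]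
  have hc : Nat.card (PresentedGroup rels) = Nat.card (alternatingGroup (Fin (k + 3))) := by
    refine le_antisymm ?_ (Nat.card_le_card_of_surjective f hsurj)
    refine Nat.le_of_mul_le_mul_left ?_ (show 0 < 2 by norm_num)
    rw [hA]; exact hcard
  exact ⟨MulEquiv.ofBijective f ((Nat.bijective_iff_surjective_and_card f).mpr ⟨hsurj, hc⟩)⟩

end Cfsg.Agent.Core.AltPres
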