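/-
Core library: Hall complement systems and Sylow systems of finite solvable groups.
-/
import Cfsg.Agent.Core.Hall
import Cfsg.Agent.Core.Products
import Cfsg.Prelude.Def_SolvableStructure

set_option autoImplicit false
set_option linter.style.haveILetI false

namespace Cfsg.Agent.Core

open Cfsg Subgroup
open scoped Pointwise

variable {G : Type*} [Group G]

theorem index_inf_of_coprime [Finite G] {A B : Subgroup G} (h : A.index.Coprime B.index) :
    (A ⊓ B).index = A.index * B.index :=
  le_antisymm index_inf_le (Nat.le_of_dvd (Nat.pos_of_ne_zero index_ne_zero_of_finite)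
    (h.mul_dvd_of_dvd_of_dvd (index_dvd_of_le inf_le_left) (index_dvd_of_le inf_le_right)))

theorem exists_mul_of_coprime_index [Finite G] {A B : Subgroup G} (h : A.index.Coprime B.index)
    (g : G) : ∃ x ∈ A, ∃ y ∈ B, g = x * y := by
  refine exists_mul_of_index_le_relIndex ?_ g
  have h1 := relIndex_mul_index (inf_le_right : A ⊓ B ≤ B)
  rw [inf_relIndex_right, index_inf_of_coprime h] at h1
  exact (Nat.eq_of_mul_eq_mul_right (Nat.pos_of_ne_zero index_ne_zero_of_finite) h1).ge

/-- `K` gives for every prime a subgroup whose index is the `p`-part of the order. -/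
def IsCompl' (K : ℕ → Subgroup G) : Prop :=
  ∀ p : ℕ, p.Prime → (K p).index = p ^ (Nat.card G).factorization p

theorem index_finset_inf [Finite G] {K : ℕ → Subgroup G} (hK : IsCompl' K) (T : Finset ℕ)
    (hT : ∀ p ∈ T, p.Prime) : (T.inf K).index = ∏ p ∈ T, p ^ (Nat.card G).factorization p := by
  induction T using Finset.induction_on with
  | empty => simp
  | @insert a T ha ih =>
    have h1 := ih fun p hp => hT p (Finset.mem_insert_of_mem hp)
    have hcop : (K a).index.Coprime (T.inf K).index := by
      rw [hK a (hT a (Finset.mem_insert_self a T)), h1]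
      refine Nat.Coprime.prod_right fun p hp => Nat.Coprime.pow _ _ ?_
      exact (Nat.coprime_primes (hT a (Finset.mem_insert_self a T))
        (hT p (Finset.mem_insert_of_mem hp))).mpr fun e => ha (e ▸ hp)
    rw [Finset.inf_insert, index_inf_of_coprime hcop, Finset.prod_insert ha,
      hK a (hT a (Finset.mem_insert_self a T)), h1]

theorem isPiHall_of_index_eq [Finite G] {p : ℕ} (hp : p.Prime) {K : Subgroup G} :
    K.index = p ^ (Nat.card G).factorization p ↔
      IsPiHall {q | q ∣ Nat.card G / p ^ (Nat.card G).factorization p} K := by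
  have hG : Nat.card G = (Nat.card G / p ^ (Nat.card G).factorization p) *
      p ^ (Nat.card G).factorization p := (Nat.div_mul_cancel (Nat.ordProj_dvd _ p)).symm
  have hcop : (Nat.card G / p ^ (Nat.card G).factorization p).Coprime
      (p ^ (Nat.card G).factorization p) :=
    ((Nat.coprime_ordCompl hp Nat.card_pos.ne').pow_left _).symm
  rw [isPiHall_iff_card_eq hG hcop]
  have h := K.card_mul_index
  constructor
  · intro h1
    rw [h1] at h
    exact Nat.eq_of_mul_eq_mul_right (pow_pos hp.pos _) (h.trans hG)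
  · intro h1
    rw [h1] at h
    exact Nat.eq_of_mul_eq_mul_left (h1 ▸ Nat.card_pos) (h.trans hG)

theorem exists_isCompl' [Finite G] [Group.IsSolvable G] : ∃ K : ℕ → Subgroup G, IsCompl' K := by
  classical
  have : ∀ p : ℕ, ∃ K : Subgroup G, p.Prime → K.index = p ^ (Nat.card G).factorization p := by
    intro p
    by_cases hp : p.Prime
    · obtain ⟨K, hK⟩ := exists_isPiHall_of_isSolvable (G := G)
        {q | q ∣ Nat.card G / p ^ (Nat.card G).factorization p}
      exact ⟨K, fun _ => (isPiHall_of_index_eq hp).mpr hK⟩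
    · exact ⟨⊤, fun h => absurd h hp⟩
  choose K hK using this
  exact ⟨K, hK⟩

theorem exists_conj_of_isCompl' [Finite G] [Group.IsSolvable G] {K L : ℕ → Subgroup G}
    (hK : IsCompl' K) (hL : IsCompl' L) (T : Finset ℕ) (hT : ∀ p ∈ T, p.Prime) :
    ∃ g : G, ∀ p ∈ T, MulAut.conj g • K p = L p := by
  induction T using Finset.induction_on with
  | empty => exact ⟨1, fun p hp => absurd hp (Finset.notMem_empty p)⟩
  | @insert a T ha ih =>
    have hT' : ∀ p ∈ T, p.Prime := fun p hp => hT p (Finset.mem_insert_of_mem hp)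
    have hap := hT a (Finset.mem_insert_self a T)
    obtain ⟨g, hg⟩ := ih hT'
    obtain ⟨x, hx⟩ := exists_conj_eq_of_isPiHall_of_isSolvable
      ((isPiHall_of_index_eq hap).mp (hL a hap))
      ((isPiHall_of_index_eq hap).mp (show (MulAut.conj g • K a).index = _ by
        rw [index_conj_smul]; exact hK a hap))
    have hcop : (T.inf L).index.Coprime (L a).index := by
      rw [hL a hap, index_finset_inf hL T hT']
      refine Nat.Coprime.prod_left fun p hp => Nat.Coprime.pow _ _ ?_
      exact (Nat.coprime_primes (hT' p hp) hap).mpr fun e => ha (e ▸ hp)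
    obtain ⟨e, he, l, hl, hel⟩ := exists_mul_of_coprime_index hcop x
    refine ⟨e⁻¹ * g, fun p hp => ?_⟩
    rcases Finset.mem_insert.mp hp with rfl | hp
    · have h1 : MulAut.conj l • L p = L p :=
        mem_normalizer_iff_map_conj_eq.mp (le_normalizer hl)
      rw [conj_mul_smul, ← hx, hel, conj_mul_smul, h1, conj_inv_smul_smul]
    · have h1 : e⁻¹ ∈ L p := inv_mem ((Finset.inf_le hp : T.inf L ≤ L p) he)
      rw [conj_mul_smul, hg p hp]
      exact mem_normalizer_iff_map_conj_eq.mp (le_normalizer h1)

/-- Any two Hall complement systems of a finite solvable group are conjugate. -/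
theorem exists_conj_of_isComplementSystem [Finite G] [Group.IsSolvable G]
    (K L : Nat.Primes → Subgroup G) (hK : IsComplementSystem K) (hL : IsComplementSystem L) :
    ∃ g : G, ∀ p : Nat.Primes, MulAut.conj g • K p = L p := by
  classical
  let ext : (Nat.Primes → Subgroup G) → ℕ → Subgroup G := fun K p =>
    if h : p.Prime then K ⟨p, h⟩ else ⊤
  have hK' : IsCompl' (ext K) := fun p hp => by simp only [ext, dif_pos hp]; exact hK ⟨p, hp⟩
  have hL' : IsCompl' (ext L) := fun p hp => by simp only [ext, dif_pos hp]; exact hL ⟨p, hp⟩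
  obtain ⟨g, hg⟩ := exists_conj_of_isCompl' hK' hL' (Nat.card G).primeFactors
    fun p hp => Nat.prime_of_mem_primeFactors hp
  refine ⟨g, fun p => ?_⟩
  by_cases hp : (p : ℕ) ∈ (Nat.card G).primeFactors
  · have := hg p hp
    simp only [ext, dif_pos p.2] at this
    exact this
  · have h0 : (Nat.card G).factorization p = 0 :=
      Nat.factorization_eq_zero_of_not_dvd fun hd =>
        hp (Nat.mem_primeFactors.mpr ⟨p.2, hd, Nat.card_pos.ne'⟩)
    have e1 : K p = ⊤ := index_eq_one.mp (by rw [hK p, h0, pow_zero])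
    have e2 : L p = ⊤ := index_eq_one.mp (by rw [hL p, h0, pow_zero])
    rw [e1, e2]; exact conj_smul_normal g ⊤

theorem card_finset_inf_sdiff [Finite G] {K : ℕ → Subgroup G} (hK : IsCompl' K) {T : Finset ℕ}
    (hT : T ⊆ (Nat.card G).primeFactors) :
    Nat.card ↥(((Nat.card G).primeFactors \ T).inf K) =
      ∏ p ∈ T, p ^ (Nat.card G).factorization p := by
  have hpr : ∀ p ∈ (Nat.card G).primeFactors \ T, p.Prime := fun p hp =>
    Nat.prime_of_mem_primeFactors (Finset.mem_sdiff.mp hp).1
  have h := (((Nat.card G).primeFactors \ T).inf K).card_mul_index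
  rw [index_finset_inf hK _ hpr] at h
  have h2 : ∏ p ∈ (Nat.card G).primeFactors, p ^ (Nat.card G).factorization p = Nat.card G :=
    Nat.factorization_prod_pow_eq_self Nat.card_pos.ne'
  rw [← Finset.prod_sdiff hT, mul_comm] at h2
  exact Nat.eq_of_mul_eq_mul_right
    (Finset.prod_pos fun p hp => pow_pos (hpr p hp).pos _) (h.trans h2.symm)

/-- A finite solvable group has a Sylow system. -/
theorem exists_sylow_system [Finite G] [Group.IsSolvable G] :
    ∃ S : (p : Nat.Primes) → Sylow (p : ℕ) G,
      ∀ p q : Nat.Primes, (S p : Set G) * (S q : Set G) = (S q : Set G) * (S p : Set G) := by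
  classical
  obtain ⟨K, hK⟩ := exists_isCompl' (G := G)
  obtain ⟨U, hU⟩ : ∃ U : Nat.Primes → Subgroup G,
      ∀ p, U p = ((Nat.card G).primeFactors \ {(p : ℕ)}).inf K := ⟨_, fun _ => rfl⟩
  have hcard : ∀ p : Nat.Primes, Nat.card (U p) = (p : ℕ) ^ (Nat.card G).factorization p := by
    intro p
    rw [hU]
    by_cases hp : (p : ℕ) ∈ (Nat.card G).primeFactors
    · rw [card_finset_inf_sdiff hK (Finset.singleton_subset_iff.mpr hp), Finset.prod_singleton]
    · have h0 : (Nat.card G).factorization p = 0 :=
        Nat.factorization_eq_zero_of_not_dvd fun hd =>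
          hp (Nat.mem_primeFactors.mpr ⟨p.2, hd, Nat.card_pos.ne'⟩)
      rw [Finset.sdiff_eq_self_of_disjoint (Finset.disjoint_singleton_right.mpr hp), h0, pow_zero,
        ← Finset.sdiff_empty (s := (Nat.card G).primeFactors),
        card_finset_inf_sdiff hK (Finset.empty_subset _), Finset.prod_empty]
  choose S hS using fun p : Nat.Primes =>
    (haveI := Fact.mk p.2
     ⟨Sylow.ofCard (U p) (hcard p), rfl⟩ : ∃ P : Sylow (p : ℕ) G, (P : Subgroup G) = U p)
  refine ⟨S, fun p q => ?_⟩
  suffices key : ∀ p q : Nat.Primes, p ≠ q → ∃ E : Subgroup G,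
      E = ((Nat.card G).primeFactors \ {(p : ℕ), (q : ℕ)}).inf K ∧
      (U p : Set G) * (U q : Set G) = (E : Set G) by
    have hc : ∀ r, ((S r : Subgroup G) : Set G) = (U r : Set G) := fun r => by rw [hS]
    show ((S p : Subgroup G) : Set G) * ((S q : Subgroup G) : Set G) =
      ((S q : Subgroup G) : Set G) * ((S p : Subgroup G) : Set G)
    rw [hc, hc]
    by_cases hpq : p = q
    · subst hpq; rfl
    obtain ⟨E, hE, h1⟩ := key p q hpq
    obtain ⟨E', hE', h2⟩ := key q p (Ne.symm hpq)
    rw [h1, h2, hE, hE', Finset.pair_comm]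
  intro p q hpq
  refine ⟨_, rfl, ?_⟩
  obtain ⟨E, hE⟩ : ∃ E, E = ((Nat.card G).primeFactors \ {(p : ℕ), (q : ℕ)}).inf K := ⟨_, rfl⟩
  rw [← hE]
  have hle : ∀ r : Nat.Primes, ((r : ℕ) = p ∨ (r : ℕ) = q) → U r ≤ E := fun r hr => by
    rw [hU, hE]
    refine Finset.inf_mono fun x hx => ?_
    simp only [Finset.mem_sdiff, Finset.mem_insert, Finset.mem_singleton] at hx ⊢
    exact ⟨hx.1, by rcases hr with h | h <;> (rw [h]; tauto)⟩
  refine Set.Subset.antisymm ?_ fun x hx => ?_
  · rintro _ ⟨a, ha, b, hb, rfl⟩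
    exact E.mul_mem (hle p (Or.inl rfl) ha) (hle q (Or.inr rfl) hb)
  · -- in `E` the two indices are coprime
    have hEc : ∀ r : Nat.Primes, ((r : ℕ) = p ∨ (r : ℕ) = q) → (r : ℕ) ∈ (Nat.card G).primeFactors →
        True := fun _ _ _ => trivial
    have hdisj : U p ⊓ U q = ⊥ := by
      refine (disjoint_of_coprime_natCard ?_).eq_bot
      rw [hcard, hcard]
      exact Nat.Coprime.pow _ _ ((Nat.coprime_primes p.2 q.2).mpr fun e => hpq (Subtype.ext e))
    have hcardE : Nat.card E = Nat.card (U p) * Nat.card (U q) := by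
      obtain ⟨T, hT⟩ : ∃ T, T = ({(p : ℕ), (q : ℕ)} : Finset ℕ) ∩ (Nat.card G).primeFactors := ⟨_, rfl⟩
      have hsd : (Nat.card G).primeFactors \ {(p : ℕ), (q : ℕ)} = (Nat.card G).primeFactors \ T := by
        rw [hT, Finset.sdiff_inter_self_right]
      rw [hE, hsd, card_finset_inf_sdiff hK (hT ▸ Finset.inter_subset_right), hcard, hcard, hT,
        Finset.prod_subset Finset.inter_subset_left, Finset.prod_pair fun e => hpq (Subtype.ext e)]
      intro r hr hr'
      have : r ∉ (Nat.card G).primeFactors := fun h => hr' (Finset.mem_inter.mpr ⟨hr, h⟩)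
      have hr2 : r.Prime := by
        simp only [Finset.mem_insert, Finset.mem_singleton] at hr
        rcases hr with rfl | rfl
        exacts [p.2, q.2]
      rw [Nat.factorization_eq_zero_of_not_dvd fun hd =>
        this (Nat.mem_primeFactors.mpr ⟨hr2, hd, Nat.card_pos.ne'⟩), pow_zero]
    have hsub : (U p : Set G) * (U q : Set G) ⊆ E := by
      rintro _ ⟨a, ha, b, hb, rfl⟩
      exact E.mul_mem (hle p (Or.inl rfl) ha) (hle q (Or.inr rfl) hb)
    have heq : (U p : Set G) * (U q : Set G) = (E : Set G) := by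
      refine Set.eq_of_subset_of_ncard_le hsub (le_of_eq ?_) (Set.toFinite _)
      rw [← Nat.card_coe_set_eq, ← Nat.card_coe_set_eq,
        show ((U p : Set G) * (U q : Set G)) = Set.range (fun z : U p × U q => (z.1 : G) * z.2) by
          ext g; simp [Set.mem_mul],
        Nat.card_range_of_injective (Subgroup.mul_injective_of_disjoint (disjoint_iff.mpr hdisj)),
        Nat.card_prod]
      exact hcardE
    exact heq.ge hx

end Cfsg.Agent.Core
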