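/-
Core library: Huppert's criterion for supersolvability.
-/
import Cfsg.Agent.Core.SupersolvableTower
import Cfsg.Agent.Core.CoprimeAction
import Cfsg.Agent.Coprime.PxQ
import Cfsg.Agent.LocalEven.Gaschutz
import Cfsg.Agent.FGS3.PGroupFrattini
import Cfsg.Agent.S0580
import Mathlib.FieldTheory.Finite.Basic

set_option autoImplicit false
set_option linter.style.haveILetI false

namespace Cfsg.Agent.Core

open Subgroup
open scoped commutatorElement

universe u

/-- An endomorphism `f` of an elementary abelian `p`-group with `f ^ (p - 1) = 1` has an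
eigenvector. -/
theorem exists_pow_eigen {N : Type*} [CommGroup N] {p : ℕ} [hp : Fact p.Prime]
    (he : ∀ x : N, x ^ p = 1) {v : N} (hv : v ≠ 1) (f : N →* N) (hf : ∀ x, f^[p - 1] x = x) :
    ∃ w : N, w ≠ 1 ∧ ∃ l : ℕ, f w = w ^ l := by
  classical
  have hcongr : ∀ (x : N) (a b : ℕ), (a : ZMod p) = b → x ^ a = x ^ b := fun x a b h => by
    rw [pow_eq_pow_mod a (he x), pow_eq_pow_mod b (he x), (ZMod.natCast_eq_natCast_iff' a b p).mp h]
  let w : (ZMod p)ˣ → N := fun l =>
    ∏ i ∈ Finset.range (p - 1), (f^[i] v) ^ (((l : ZMod p) ^ i).val)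
  have heig : ∀ l : (ZMod p)ˣ, f (w l) = w l ^ ((((l⁻¹ : (ZMod p)ˣ) : ZMod p)).val) := fun l => by
    let F : ℕ → N := fun j =>
      (f^[j] v) ^ ((((l⁻¹ : (ZMod p)ˣ) : ZMod p) * (l : ZMod p) ^ j).val)
    have h1 : f (w l) = ∏ i ∈ Finset.range (p - 1), F (i + 1) := by
      simp only [w, map_prod, map_pow, F, Function.iterate_succ_apply', pow_succ']
      refine Finset.prod_congr rfl fun i _ => ?_
      rw [← mul_assoc, Units.inv_mul, one_mul]
    have h2 : F (p - 1) = F 0 := by
      simp only [F, hf, Function.iterate_zero_apply, ← Units.val_pow_eq_pow_val,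
        ZMod.units_pow_card_sub_one_eq_one, pow_zero]
    have h3 : ∏ i ∈ Finset.range (p - 1), F (i + 1) = ∏ i ∈ Finset.range (p - 1), F i := by
      have h4 := (Finset.prod_range_succ' F (p - 1)).symm.trans (Finset.prod_range_succ F (p - 1))
      rw [h2] at h4
      exact mul_right_cancel h4
    rw [h1, h3, ← Finset.prod_pow]
    refine Finset.prod_congr rfl fun i _ => ?_
    simp only [F, ← pow_mul]
    refine hcongr _ _ _ ?_
    push_cast [ZMod.natCast_val, ZMod.cast_id', id]
    ring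
  have hsum : ∏ l : (ZMod p)ˣ, w l = v ^ (p - 1) := by
    simp only [w]
    rw [Finset.prod_comm]
    rw [Finset.prod_eq_single 0]
    · simp only [Function.iterate_zero_apply, pow_zero, Finset.prod_const, Finset.card_univ,
        ZMod.card_units, ZMod.val_one, pow_one]
    · intro i hi hi0
      rw [Finset.prod_pow_eq_pow_sum]
      refine (hcongr _ _ 0 ?_).trans (pow_zero _)
      push_cast [ZMod.natCast_val, ZMod.cast_id', id]
      have hs := FiniteField.sum_pow_units (K := ZMod p) i
      rw [ZMod.card, if_neg (fun h => ?_)] at hs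
      · exact hs
      · have := Nat.le_of_dvd (Nat.pos_of_ne_zero hi0) h
        rw [Finset.mem_range] at hi
        omega
    · intro h
      exact absurd (Finset.mem_range.mpr (by have := hp.out.two_le; omega)) h
  obtain ⟨l, hl⟩ : ∃ l, w l ≠ 1 := by
    by_contra hno
    simp only [not_exists, not_not] at hno
    rw [Finset.prod_eq_one fun l _ => hno l] at hsum
    refine hv ?_
    have h2 : v ^ (p - 1) * v = 1 := by
      rw [← pow_succ, Nat.sub_add_cancel hp.out.one_le]; exact he v
    rwa [← hsum, one_mul] at h2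
  exact ⟨w l, hl, _, heig l⟩

/-- A `p`-subgroup normalized by `a`, where `a` acts on every factor trivially modulo `Φ`. -/
theorem commutator_centralizer_prime_card {G : Type*} [Group G] [Finite G] {p : ℕ} [hp : Fact p.Prime]
    {W : Subgroup G} (hW : W.Normal) (hc : Nat.card W = p) (x : G) :
    x ^ (p - 1) ∈ centralizer (W : Set G) := by
  obtain ⟨u, hu⟩ : ∃ u : G, W = zpowers u := by
    haveI : IsCyclic W := isCyclic_of_prime_card hc
    obtain ⟨g, hg⟩ := IsCyclic.exists_generator (α := W)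
    refine ⟨g, le_antisymm (fun y hy => ?_) (zpowers_le.mpr g.2)⟩
    obtain ⟨k, hk⟩ := mem_zpowers_iff.mp (hg ⟨y, hy⟩)
    exact mem_zpowers_iff.mpr ⟨k, by rw [← coe_zpow]; exact congrArg Subtype.val hk⟩
  subst hu
  rw [Nat.card_zpowers] at hc
  obtain ⟨i, hi⟩ := mem_zpowers_iff.mp (hW.conj_mem u (mem_zpowers u) x)
  have hpow : ∀ n : ℕ, x ^ n * u * (x ^ n)⁻¹ = u ^ (i ^ n) := by
    intro n
    induction n with
    | zero => simp
    | succ n ih =>
      calc x ^ (n + 1) * u * (x ^ (n + 1))⁻¹ = x * (x ^ n * u * (x ^ n)⁻¹) * x⁻¹ := by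
            rw [pow_succ']; group
        _ = x * u ^ (i ^ n) * x⁻¹ := by rw [ih]
        _ = (x * u * x⁻¹) ^ (i ^ n) := by rw [conj_zpow]
        _ = u ^ (i ^ (n + 1)) := by rw [← hi, ← zpow_mul, pow_succ']
  have hi0 : (i : ZMod p) ≠ 0 := fun h0 => by
    rw [ZMod.intCast_zmod_eq_zero_iff_dvd, ← hc, orderOf_dvd_iff_zpow_eq_one, hi, conj_eq_one_iff] at h0
    rw [h0, orderOf_one] at hc
    exact hp.out.ne_one hc.symm
  have h1 : x ^ (p - 1) * u * (x ^ (p - 1))⁻¹ = u := by
    rw [hpow]
    conv_rhs => rw [← zpow_one u]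
    rw [zpow_eq_zpow_iff_modEq, hc, ← ZMod.intCast_eq_intCast_iff]
    push_cast
    exact ZMod.pow_card_sub_one_eq_one hi0
  rw [mem_centralizer_iff]
  intro z hz
  obtain ⟨k, rfl⟩ := mem_zpowers_iff.mp hz
  exact (show Commute u (x ^ (p - 1)) from (mul_inv_eq_iff_eq_mul.mp h1).symm).zpow_left k

theorem huppert_aux : ∀ (n : ℕ) {G : Type u} [Group G] [Finite G], Nat.card G = n →
    (∀ M : Subgroup G, IsCoatom M → M.index.Prime) → Cfsg.IsSupersolvable G := by
  intro n
  induction n using Nat.strong_induction_on with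
  | _ n ih =>
  intro G _ _ hn h
  classical
  rcases subsingleton_or_nontrivial G with hs | hs
  · exact isSupersolvable_iff.mpr fun N _ hN => absurd (Subsingleton.elim N ⊤) hN
  haveI : Group.IsSolvable G := Cfsg.Agent.S0580.result h
  -- proper quotients
  have hquot : ∀ (N : Subgroup G) (_ : N.Normal), N ≠ ⊥ → Cfsg.IsSupersolvable (G ⧸ N) := fun N hN hb => by
    refine ih _ ?_ rfl fun M hM => ?_
    · rw [← hn, card_eq_card_quotient_mul_card_subgroup N]
      exact lt_mul_of_one_lt_right Nat.card_pos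
        (Finite.one_lt_card_iff_nontrivial.mpr ((nontrivial_iff_ne_bot _).2 hb))
    · have := h _ (isCoatom_comap_of_surjective (QuotientGroup.mk'_surjective _) hM)
      rwa [index_comap_of_surjective _ (QuotientGroup.mk'_surjective _)] at this
  obtain ⟨N, hN⟩ := exists_isMinNormal (G := G)
  haveI := hN.1
  -- `N` may be assumed to be the only minimal normal subgroup
  by_cases huniq : ∃ M : Subgroup G, IsMinNormal M ∧ M ≠ N
  · obtain ⟨M, hM, hMN⟩ := huniq
    haveI := hM.1
    have hinf : N ⊓ M = ⊥ := by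
      rcases hN.inf_eq_bot_or_le hM.1 with h' | h'
      · exact h'
      · rcases hM.2.2 N hN.1 h' with h'' | h''
        · exact absurd h'' hN.2.1
        · exact absurd h''.symm hMN
    let f : G →* (G ⧸ N) × (G ⧸ M) := (QuotientGroup.mk' N).prod (QuotientGroup.mk' M)
    have hf : Function.Injective f := by
      rw [injective_iff_map_eq_one]
      intro x hx
      have h1 : x ∈ N ⊓ M := ⟨(QuotientGroup.eq_one_iff x).mp (congrArg Prod.fst hx),
        (QuotientGroup.eq_one_iff x).mp (congrArg Prod.snd hx)⟩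
      rwa [hinf, mem_bot] at h1
    have h1 := isSupersolvable_subgroup (isSupersolvable_prod (hquot N hN.1 hN.2.1) (hquot M hM.1 hM.2.1)) f.range
    exact isSupersolvable_of_surjective (f := (MonoidHom.ofInjective hf).symm.toMonoidHom)
      (MonoidHom.ofInjective hf).symm.surjective h1
  simp only [not_exists, not_and, not_not] at huniq
  have hNle : ∀ X : Subgroup G, X.Normal → X ≠ ⊥ → N ≤ X := fun X hX hb => by
    obtain ⟨M, hM, hMX⟩ := exists_isMinNormal_le hX hb
    rwa [huniq M hM] at hMX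
  obtain ⟨hNab, p, hp, hNe, hNp⟩ := hN.elementaryAbelian_of_isSolvable
  haveI := hNab
  haveI := Fact.mk hp
  have hNne : Nontrivial N := (nontrivial_iff_ne_bot N).2 hN.2.1
  by_cases hNphi : ¬ N ≤ frattini G
  · -- a complemented `N` has prime order
    obtain ⟨M, hM, hNM⟩ := exists_coatom_not_ge hNphi
    have htop := sup_eq_top_of_coatom hM hNM
    have hinf : N ⊓ M = ⊥ := by
      rcases hN.2.2 _ (inf_normal_of_sup_eq_top htop) inf_le_left with h' | h'
      · exact h'
      · exact absurd (inf_eq_left.mp h') hNM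
    have hc := isComplement'_of_inf_eq_bot_of_sup_eq_top hinf htop
    have hpr : (Nat.card N).Prime := by rw [← hc.index_eq_card]; exact h M hM
    haveI : Fact (Nat.card N).Prime := ⟨hpr⟩
    haveI : IsCyclic N := isCyclic_of_prime_card (p := Nat.card N) rfl
    exact isSupersolvable_of_cyclic_normal N (hquot N hN.1 hN.2.1)
  rw [not_not] at hNphi
  -- the Sylow subgroup for the largest prime is normal
  have hne : (Nat.card G).primeFactors.Nonempty :=
    Nat.nonempty_primeFactors.mpr Finite.one_lt_card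
  obtain ⟨q, hq, hmax⟩ : ∃ q ∈ (Nat.card G).primeFactors, ∀ r ∈ (Nat.card G).primeFactors, r ≤ q :=
    ⟨_, Finset.max'_mem _ hne, fun r hr => Finset.le_max' _ r hr⟩
  have hqq : q.Prime := Nat.prime_of_mem_primeFactors hq
  haveI := Fact.mk hqq
  obtain ⟨P⟩ := (inferInstance : Nonempty (Sylow q G))
  haveI hPn : (P : Subgroup G).Normal := by
    obtain ⟨K, hK⟩ : ∃ K, K = (P : Subgroup G) ⊔ N := ⟨_, rfl⟩
    haveI hKn : K.Normal := by
      have h1 := sylow_normal_of_max_prime (hquot N hN.1 hN.2.1) (p := q)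
        (fun r hr hd => hmax r (Nat.mem_primeFactors.mpr
          ⟨hr, hd.trans N.card_quotient_dvd_card, Nat.card_pos.ne'⟩))
        (P.mapSurjective (QuotientGroup.mk'_surjective N))
      rw [Sylow.coe_mapSurjective] at h1
      rw [hK, ← QuotientGroup.ker_mk' N, ← comap_map_eq]
      exact h1.comap _
    have hPK : (P : Subgroup G) ≤ K := hK ▸ le_sup_left
    have hfr := Sylow.normalizer_sup_eq_top (P.subtype hPK)
    rw [Sylow.coe_subtype, map_subgroupOf_eq_of_le hPK, hK] at hfr
    refine normalizer_eq_top_iff.mp (frattini_nongenerating (le_antisymm le_top (hfr.ge.trans ?_)))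
    exact sup_le le_sup_left (sup_le (le_normalizer.trans le_sup_left) (hNphi.trans le_sup_right))
  have hPb : (P : Subgroup G) ≠ ⊥ := fun e => P.not_dvd_index (by
    rw [e, index_bot]; exact Nat.dvd_of_mem_primeFactors hq)
  have hNP : N ≤ (P : Subgroup G) := hNle _ hPn hPb
  obtain rfl : p = q := by
    obtain ⟨z, hz⟩ := exists_ne (1 : N)
    by_contra hpq
    have := disjoint_def.mp (IsPGroup.disjoint_of_ne p q hpq _ _ hNp P.2) z.2 (hNP z.2)
    exact hz (Subtype.ext this)
  have hPC : centralizer ((P : Subgroup G) : Set G) ≤ (P : Subgroup G) := by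
    have h0 : Cfsg.pPrimeCore p G = ⊥ := by
      by_contra hb
      refine hN.2.1 ((eq_bot_iff_forall _).mpr fun z hz => ?_)
      have h1 := hNle _ inferInstance hb hz
      have h2 : N ⊓ Cfsg.pPrimeCore p G = ⊥ := by
        obtain ⟨k, hk⟩ := IsPGroup.iff_card.mp hNp
        exact (disjoint_of_coprime_natCard (by
          rw [hk]; exact (card_pPrimeCore_coprime p G).symm.pow_left k)).eq_bot
      exact mem_bot.mp (h2 ▸ ⟨hz, h1⟩)
    have hle : Cfsg.pCore p G = (P : Subgroup G) :=
      le_antisymm (pCore_le_sylow P) (le_pCore hPn P.2)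
    exact hle ▸ centralizer_pCore_le_of_isSolvable h0
  -- `N` is central in `P`
  have hNZ : N ≤ centralizer ((P : Subgroup G) : Set G) := by
    rw [← commutator_eq_bot_iff_le_centralizer]
    have hlt := Coprime.commutator_lt_of_isPGroup hNp P.2
      (normalizer_eq_top_iff.mpr hN.1 ▸ le_top) hN.2.1
    rcases hN.2.2 _ inferInstance hlt.le with h' | h'
    · exact h'
    · exact absurd h' hlt.ne
  -- `N` lies in `Φ(P)`
  obtain ⟨F, hF⟩ : ∃ F, F = (frattini (P : Subgroup G)).map (P : Subgroup G).subtype := ⟨_, rfl⟩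
  haveI hFn : F.Normal := hF ▸ normal_map_subtype_of_characteristic _
  have hFb : F ≠ ⊥ := fun hb => by
    have hfr : frattini (P : Subgroup G) = ⊥ :=
      (map_eq_bot_iff_of_injective _ (P : Subgroup G).subtype_injective).mp (hF ▸ hb)
    haveI : IsMulCommutative (N.subgroupOf (P : Subgroup G)) := inferInstance
    obtain ⟨A, hA⟩ := exists_isComplement'_of_inf_frattini (A := N.subgroupOf (P : Subgroup G))
      (by rw [hfr, inf_bot_eq])
    obtain ⟨A', hA'⟩ : ∃ A', A' = A.map (P : Subgroup G).subtype := ⟨_, rfl⟩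
    have hAP : A' ≤ (P : Subgroup G) := hA' ▸ map_subtype_le A
    have h1 : A' ⊓ N = ⊥ := by
      rw [eq_bot_iff]
      rintro z ⟨hz, hzN⟩
      rw [hA'] at hz
      obtain ⟨y, hy, rfl⟩ := hz
      have : y = 1 := mem_bot.mp (hA.disjoint.eq_bot ▸ ⟨mem_subgroupOf.mpr hzN, hy⟩)
      rw [mem_bot, this]; rfl
    have h2 : N ⊔ A' = (P : Subgroup G) := by
      have := congrArg (Subgroup.map (P : Subgroup G).subtype) hA.sup_eq_top
      rwa [Subgroup.map_sup, map_subgroupOf_eq_of_le hNP, ← hA', ← MonoidHom.range_eq_map,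
        range_subtype] at this
    obtain ⟨k, hk⟩ := IsPGroup.iff_card.mp hNp
    obtain ⟨H, hH⟩ := LocalEven.gaschutz_exists N (P : Subgroup G) hNP
      (by rw [hk]; exact (hp.coprime_iff_not_dvd.mpr P.not_dvd_index).pow_left k) A' hAP h1 h2
    have hHt : H = ⊤ := frattini_nongenerating (le_antisymm le_top
      (hH.sup_eq_top.ge.trans (sup_le (hNphi.trans le_sup_right) le_sup_left)))
    have h3 := hH.disjoint.eq_bot
    rw [hHt, inf_top_eq] at h3
    exact hN.2.1 h3
  have hNF : N ≤ F := hNle F hFn hFb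
  have hFP : F ≤ (P : Subgroup G) := hF ▸ map_subtype_le _
  obtain ⟨K, hK⟩ := exists_right_complement'_of_coprime (N := (P : Subgroup G)) P.card_coprime_index
  have hKP : K ≤ normalizer ((P : Subgroup G) : Set G) := normalizer_eq_top_iff.mpr hPn ▸ le_top
  have hKc : ¬ p ∣ Nat.card K := by
    rw [← hK.symm.index_eq_card]; exact P.not_dvd_index
  -- commutators and `(p-1)`-st powers in `K` centralize `P`
  obtain ⟨A, hA⟩ : ∃ A, A = closure ({z | ∃ x ∈ K, ∃ y ∈ K, ⁅x, y⁆ = z} ∪ {z | ∃ x ∈ K, x ^ (p - 1) = z}) :=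
    ⟨_, rfl⟩
  have hAK : A ≤ K := by
    rw [hA, closure_le]
    rintro z (⟨x, hx, y, hy, rfl⟩ | ⟨x, hx, rfl⟩)
    · rw [SetLike.mem_coe, commutatorElement_def]
      exact mul_mem (mul_mem (mul_mem hx hy) (inv_mem hx)) (inv_mem hy)
    · exact pow_mem hx _
  have hAcop : (Nat.card A).Coprime (Nat.card (P : Subgroup G)) := by
    obtain ⟨k, hk⟩ := IsPGroup.iff_card.mp P.2
    rw [hk]
    exact ((hp.coprime_iff_not_dvd.mpr hKc).symm.coprime_dvd_left (card_dvd_of_le hAK)).pow_right k
  have hstep : ⁅(P : Subgroup G), A⁆ ≤ F := by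
    obtain ⟨L, ⟨hLn, hLP, hFL, hLA⟩, hLmax⟩ := (Set.toFinite {L : Subgroup G | L.Normal ∧
      L ≤ (P : Subgroup G) ∧ F ≤ L ∧ ⁅L, A⁆ ≤ F}).exists_maximal
      ⟨F, hFn, hFP, le_rfl, commutator_le_left _ _⟩
    rcases hLP.eq_or_lt with rfl | hlt
    · exact hLA
    exfalso
    haveI := hLn
    have hLb : L ≠ ⊥ := fun e => hFb (le_bot_iff.mp (e ▸ hFL))
    obtain ⟨W, r, hW, hWle, hr, hWc⟩ := exists_normal_prime_card_le (hquot L hLn hLb)
      (K := (P : Subgroup G).map (QuotientGroup.mk' L)) (hPn.map _ (QuotientGroup.mk'_surjective L))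
      (fun e => hlt.not_ge (by rwa [Subgroup.map_eq_bot_iff, QuotientGroup.ker_mk'] at e))
    haveI := hW
    obtain rfl : r = p := by
      obtain ⟨k, hk⟩ := IsPGroup.iff_card.mp (P.2.map (QuotientGroup.mk' L))
      exact (Nat.prime_dvd_prime_iff_eq hr hp).mp
        (hr.dvd_of_dvd_pow (hk ▸ hWc ▸ card_dvd_of_le hWle))
    obtain ⟨W', hW'⟩ : ∃ W', W' = W.comap (QuotientGroup.mk' L) := ⟨_, rfl⟩
    haveI hW'n : W'.Normal := hW' ▸ hW.comap _
    have hW'P : W' ≤ (P : Subgroup G) := by
      rw [hW']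
      refine (comap_mono hWle).trans ?_
      rw [comap_map_eq, QuotientGroup.ker_mk', sup_eq_left.mpr hLP]
    have hAW : A.map (QuotientGroup.mk' L) ≤ centralizer (W : Set (G ⧸ L)) := by
      rw [map_le_iff_le_comap, hA, closure_le]
      obtain ⟨u, hu⟩ : ∃ u, W = zpowers u := by
        haveI : Fact r.Prime := ⟨hr⟩
        haveI : IsCyclic W := isCyclic_of_prime_card hWc
        obtain ⟨g, hg⟩ := IsCyclic.exists_generator (α := W)
        refine ⟨g, le_antisymm (fun y hy => ?_) (zpowers_le.mpr g.2)⟩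
        obtain ⟨k, hk⟩ := mem_zpowers_iff.mp (hg ⟨y, hy⟩)
        exact mem_zpowers_iff.mpr ⟨k, by rw [← coe_zpow]; exact congrArg Subtype.val hk⟩
      rintro z (⟨x, -, y, -, rfl⟩ | ⟨x, -, rfl⟩)
      · rw [SetLike.mem_coe, mem_comap, map_commutatorElement, hu]
        exact commutator_le_centralizer_zpowers (hu ▸ hW)
          (commutator_mem_commutator (mem_top _) (mem_top _))
      · rw [SetLike.mem_coe, mem_comap, map_pow]
        exact commutator_centralizer_prime_card hW hWc _
    have hWA : ⁅W', A⁆ ≤ L := by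
      rw [commutator_le]
      intro w hw a ha
      rw [hW', mem_comap] at hw
      rw [← QuotientGroup.eq_one_iff, ← QuotientGroup.mk'_apply, map_commutatorElement,
        commutatorElement_eq_one_iff_commute]
      exact mem_centralizer_iff.mp (hAW (mem_map_of_mem _ ha)) _ hw
    have hW'A : ⁅W', A⁆ ≤ F := by
      haveI := (P.2.to_le hW'P).isNilpotent
      rw [← commutator_commutator_eq (normalizer_eq_top_iff.mpr hW'n ▸ le_top) (Or.inr inferInstance)
        (hAcop.coprime_dvd_right (card_dvd_of_le hW'P))]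
      exact (commutator_mono hWA le_rfl).trans hLA
    have hLW : L ≤ W' := hW' ▸ QuotientGroup.le_comap_mk' L W
    have h3 := hLmax (y := W') ⟨hW'n, hW'P, hFL.trans hLW, hW'A⟩ hLW
    have h4 : W = ⊥ := by
      rw [← map_comap_eq_self_of_surjective (QuotientGroup.mk'_surjective L) W, ← hW',
        Subgroup.map_eq_bot_iff, QuotientGroup.ker_mk']
      exact h3
    rw [h4, card_bot] at hWc
    exact hr.ne_one hWc.symm
  have hAP : A ≤ centralizer ((P : Subgroup G) : Set G) := by
    have hAN : A ≤ normalizer ((P : Subgroup G) : Set G) := hAK.trans hKP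
    haveI := P.2.isNilpotent
    have h1 := eq_commutator_sup_centralizer hAN (Or.inr inferInstance) hAcop
    obtain ⟨C, hC⟩ : ∃ C, C = (P : Subgroup G) ⊓ centralizer (A : Set G) := ⟨_, rfl⟩
    rw [← hC] at h1
    have hCP : C ≤ (P : Subgroup G) := hC ▸ inf_le_left
    have h2 : C.subgroupOf (P : Subgroup G) = ⊤ := by
      refine frattini_nongenerating (map_injective (P : Subgroup G).subtype_injective ?_)
      rw [Subgroup.map_sup, map_subgroupOf_eq_of_le hCP, ← hF, ← MonoidHom.range_eq_map, range_subtype]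
      exact le_antisymm (sup_le hCP hFP) (h1.le.trans (sup_le (hstep.trans le_sup_right) le_sup_left))
    rw [subgroupOf_eq_top] at h2
    exact le_centralizer_iff.mp (h2.trans (hC ▸ inf_le_right))
  have hAbot : ∀ a ∈ A, a = 1 := fun a ha =>
    disjoint_def.mp hK.disjoint (hPC (hAP ha)) (hAK ha)
  -- `K` is abelian and acts with exponent dividing `p - 1`
  have hKcomm : ∀ x ∈ K, ∀ y ∈ K, x * y = y * x := fun x hx y hy =>
    commutatorElement_eq_one_iff_mul_comm.mp (hAbot _ (hA ▸ subset_closure (Or.inl ⟨x, hx, y, hy, rfl⟩)))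
  have hKexp : ∀ x ∈ K, x ^ (p - 1) = 1 := fun x hx =>
    hAbot _ (hA ▸ subset_closure (Or.inr ⟨x, hx, rfl⟩))
  open scoped IsMulCommutative in
  have hpow : ∀ x ∈ K, ∃ l : ℕ, ∀ v ∈ N, x * v * x⁻¹ = v ^ l := by
    intro x hx
    have hconj : ∀ g : G, ∀ v ∈ N, g * v * g⁻¹ ∈ N := fun g v hv => hN.1.conj_mem v hv g
    let f : N →* N :=
      { toFun := fun v => ⟨x * v * x⁻¹, hconj x v v.2⟩
        map_one' := Subtype.ext (by simp)
        map_mul' := fun a b => Subtype.ext (by simp [mul_assoc]) }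
    have hiter : ∀ (m : ℕ) (v : N), ((f^[m] v : N) : G) = x ^ m * v * (x ^ m)⁻¹ := by
      intro m
      induction m with
      | zero => simp
      | succ m ih =>
        intro v
        rw [Function.iterate_succ_apply', pow_succ']
        show x * (f^[m] v : N) * x⁻¹ = _
        rw [ih]; group
    obtain ⟨v₀, hv₀⟩ := exists_ne (1 : N)
    obtain ⟨w, hw, l, hl⟩ := exists_pow_eigen (p := p) (fun v : N => Subtype.ext (hNe v v.2)) hv₀ f
      fun v => Subtype.ext (by rw [hiter, hKexp x hx]; simp)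
    obtain ⟨V, hV⟩ : ∃ V : Subgroup N, ∀ v, v ∈ V ↔ f v = v ^ l :=
      ⟨f.eqLocus (powMonoidHom l), fun v => Iff.rfl⟩
    have hVn : (V.map N.subtype).Normal := by
      rw [← normalizer_eq_top_iff, eq_top_iff, ← hK.sup_eq_top]
      have key : ∀ g : G, (∀ v ∈ N, g * (x * v * x⁻¹) * g⁻¹ = x * (g * v * g⁻¹) * x⁻¹) →
          ∀ z ∈ V.map N.subtype, g * z * g⁻¹ ∈ V.map N.subtype := by
        rintro g hg _ ⟨v, hv, rfl⟩
        refine ⟨⟨g * v * g⁻¹, hconj g v v.2⟩, (hV _).mpr (Subtype.ext ?_), rfl⟩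
        show x * (g * v * g⁻¹) * x⁻¹ = (((⟨g * v * g⁻¹, hconj g v v.2⟩ : N) ^ l : N) : G)
        rw [← hg v v.2, show x * (v : G) * x⁻¹ = ((v ^ l : N) : G) from congrArg Subtype.val ((hV v).mp hv)]
        simp [conj_pow]
      refine sup_le (fun g hg => ?_) (fun g hg => ?_)
      · refine Coprime.mem_normalizer_of_conj_mem (key g fun v hv => ?_)
        have e1 : ∀ z ∈ N, g * z * g⁻¹ = z := fun z hz => by
          rw [mem_centralizer_iff.mp (hNZ hz) g hg, mul_inv_cancel_right]
        rw [e1 v hv, e1 _ (hconj x v hv)]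
      · refine Coprime.mem_normalizer_of_conj_mem (key g fun v _ => ?_)
        have e2 : x⁻¹ * g⁻¹ = g⁻¹ * x⁻¹ := by rw [← mul_inv_rev, hKcomm g hg x hx, mul_inv_rev]
        calc g * (x * v * x⁻¹) * g⁻¹ = (g * x) * v * (x⁻¹ * g⁻¹) := by group
          _ = (x * g) * v * (g⁻¹ * x⁻¹) := by rw [hKcomm g hg x hx, e2]
          _ = x * (g * v * g⁻¹) * x⁻¹ := by group
    refine ⟨l, fun v hv => ?_⟩
    have htop : V.map N.subtype = N := (hN.2.2 _ hVn (map_subtype_le V)).resolve_left fun e => by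
      have : (w : G) ∈ V.map N.subtype := mem_map_of_mem _ ((hV w).mpr hl)
      rw [e, mem_bot] at this
      exact hw (Subtype.ext this)
    obtain ⟨u, hu, rfl⟩ := htop.ge hv
    exact congrArg Subtype.val ((hV u).mp hu)
  obtain ⟨z, hz⟩ := exists_ne (1 : N)
  have hzn : (zpowers (z : G)).Normal := by
    rw [← normalizer_eq_top_iff, eq_top_iff, ← hK.sup_eq_top]
    refine sup_le (fun g hg => ?_) (fun g hg => ?_)
    · refine Coprime.mem_normalizer_of_conj_mem fun v hv => ?_
      rwa [mem_centralizer_iff.mp (hNZ (zpowers_le.mpr z.2 hv)) g hg, mul_inv_cancel_right]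
    · obtain ⟨l, hl⟩ := hpow g hg
      refine Coprime.mem_normalizer_of_conj_mem fun v hv => ?_
      rw [hl v (zpowers_le.mpr z.2 hv)]
      exact pow_mem hv l
  have hNz : zpowers (z : G) = N := (hN.2.2 _ hzn (zpowers_le.mpr z.2)).resolve_left fun e => by
    rw [zpowers_eq_bot] at e
    exact hz (Subtype.ext e)
  haveI : IsCyclic N := hNz ▸ inferInstance
  exact isSupersolvable_of_cyclic_normal N (hquot N hN.1 hN.2.1)

/-- **Huppert**: if every maximal subgroup has prime index, the group is supersolvable. -/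
theorem isSupersolvable_of_forall_coatom_prime_index {G : Type*} [Group G] [Finite G]
    (h : ∀ M : Subgroup G, IsCoatom M → M.index.Prime) : Cfsg.IsSupersolvable G :=
  huppert_aux _ rfl h

end Cfsg.Agent.Core
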