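/-
Core library: the triangle group presentations of `A₅` and `SL(2, 5)`.
-/
import Cfsg.Agent.Core.CosetBound
import Cfsg.Agent.Core.RankTwoQd
import Cfsg.Agent.Core.BurnsidePQ
import Cfsg.Agent.KnownA.AltFive
import Cfsg.Agent.Linear.Card
import Cfsg.Agent.S0494
import Cfsg.Agent.S0215
import Mathlib

set_option autoImplicit false
set_option linter.style.haveILetI false

namespace Cfsg.Agent.Core.Icosa

variable {P : Type*} [Group P]

/-- A group generated by `x, y` with `x³ = y⁵ = (xy)² = 1` has order at most 60. -/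
theorem card_le_sixty (x y : P) (hgen : Subgroup.closure ({x, y} : Set P) = ⊤) (hx : x ^ 3 = 1)
    (hy : y ^ 5 = 1) (hxy : (x * y) ^ 2 = 1) : Finite P ∧ Nat.card P ≤ 60 := by
  classical
  set H := Subgroup.zpowers y
  have hfin : IsOfFinOrder y := isOfFinOrder_iff_pow_eq_one.mpr ⟨5, by norm_num, hy⟩
  haveI : Finite H := Nat.finite_of_card_ne_zero (by rw [Nat.card_zpowers]; exact hfin.orderOf_pos.ne')
  have hH5 : Nat.card H ≤ 5 := by
    rw [Nat.card_zpowers]; exact Nat.le_of_dvd (by norm_num) (orderOf_dvd_of_pow_eq_one hy)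
  have R0 : ∀ c : P ⧸ H, x • x • x • c = c := fun c => by
    rw [← mul_smul, ← mul_smul, show x * x * x = x ^ 3 by simp [pow_succ], hx, one_smul]
  have R1 : ∀ c : P ⧸ H, y • y • y • y • y • c = c := fun c => by
    rw [← mul_smul, ← mul_smul, ← mul_smul, ← mul_smul, show y * y * y * y * y = y ^ 5 by simp [pow_succ], hy, one_smul]
  have R2 : ∀ c : P ⧸ H, x • y • x • y • c = c := fun c => by
    rw [← mul_smul, ← mul_smul, ← mul_smul, show x * y * x * y = (x * y) ^ 2 by rw [pow_two, mul_assoc (x * y)], hxy, one_smul]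
  obtain ⟨C0, e0⟩ : ∃ c : P ⧸ H, ((1 : P) : P ⧸ H) = c := ⟨_, rfl⟩
  have hC0 : y • C0 = C0 := by
    subst e0
    show ((y * 1 : P) : P ⧸ H) = ((1 : P) : P ⧸ H)
    rw [QuotientGroup.eq, mul_one, mul_one]
    exact inv_mem (Subgroup.mem_zpowers y)
  have f1_0 : y • C0 = C0 := hC0
  obtain ⟨C1, f0_0⟩ : ∃ c : P ⧸ H, x • C0 = c := ⟨_, rfl⟩
  obtain ⟨C2, f0_1⟩ : ∃ c : P ⧸ H, x • C1 = c := ⟨_, rfl⟩
  have f0_2 : x • C2 = C0 := by
    have h := R0 C0
    rw [f0_0, f0_1] at h
    exact h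
  have f1_1 : y • C1 = C2 := by
    have h := R2 C0
    rw [f1_0, f0_0] at h
    exact smul_left_cancel _ ((h).trans f0_2.symm)
  obtain ⟨C3, f1_2⟩ : ∃ c : P ⧸ H, y • C2 = c := ⟨_, rfl⟩
  obtain ⟨C4, f0_3⟩ : ∃ c : P ⧸ H, x • C3 = c := ⟨_, rfl⟩
  have f1_4 : y • C4 = C1 := by
    have h := R2 C2
    rw [f1_2, f0_3] at h
    exact smul_left_cancel _ ((h).trans f0_1.symm)
  obtain ⟨C5, f1_3⟩ : ∃ c : P ⧸ H, y • C3 = c := ⟨_, rfl⟩
  have f1_5 : y • C5 = C4 := by
    have h := R1 C1
    rw [f1_1, f1_2, f1_3] at h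
    exact smul_left_cancel _ ((h).trans f1_4.symm)
  obtain ⟨C6, f0_4⟩ : ∃ c : P ⧸ H, x • C4 = c := ⟨_, rfl⟩
  have f0_6 : x • C6 = C3 := by
    have h := R0 C3
    rw [f0_3, f0_4] at h
    exact h
  obtain ⟨C7, f0_5⟩ : ∃ c : P ⧸ H, x • C5 = c := ⟨_, rfl⟩
  have f1_7 : y • C7 = C6 := by
    have h := R2 C3
    rw [f1_3, f0_5] at h
    exact smul_left_cancel _ ((h).trans f0_6.symm)
  obtain ⟨C8, f1_6⟩ : ∃ c : P ⧸ H, y • C6 = c := ⟨_, rfl⟩
  have f0_8 : x • C8 = C5 := by
    have h := R2 C5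
    rw [f1_5, f0_4, f1_6] at h
    exact h
  have f0_7 : x • C7 = C8 := by
    have h := R0 C5
    rw [f0_5] at h
    exact smul_left_cancel _ ((h).trans f0_8.symm)
  obtain ⟨C9, f1_8⟩ : ∃ c : P ⧸ H, y • C8 = c := ⟨_, rfl⟩
  obtain ⟨C10, f0_9⟩ : ∃ c : P ⧸ H, x • C9 = c := ⟨_, rfl⟩
  have f1_10 : y • C10 = C7 := by
    have h := R2 C8
    rw [f1_8, f0_9] at h
    exact smul_left_cancel _ ((h).trans f0_7.symm)
  have f1_9 : y • C9 = C10 := by
    have h := R1 C6
    rw [f1_6, f1_8] at h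
    exact smul_left_cancel _ ((smul_left_cancel _ ((h).trans f1_7.symm)).trans f1_10.symm)
  obtain ⟨C11, f0_10⟩ : ∃ c : P ⧸ H, x • C10 = c := ⟨_, rfl⟩
  have f0_11 : x • C11 = C9 := by
    have h := R0 C9
    rw [f0_9, f0_10] at h
    exact h
  have f1_11 : y • C11 = C11 := by
    have h := R2 C9
    rw [f1_9, f0_10] at h
    exact smul_left_cancel _ ((h).trans f0_11.symm)
  obtain ⟨h1, h2⟩ := CosetBound.card_le_of_closure_eq_top {x, y} hgen H ({C0, C1, C2, C3, C4, C5, C6, C7, C8, C9, C10, C11} : Finset (P ⧸ H))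
    (by simp [e0]) (by
      rintro g hg t ht
      simp only [Finset.mem_insert, Finset.mem_singleton] at ht
      rcases hg with rfl | rfl <;>
        rcases ht with rfl | rfl | rfl | rfl | rfl | rfl | rfl | rfl | rfl | rfl | rfl | rfl <;>
        simp [f0_0, f1_0, f0_1, f1_1, f0_2, f1_2, f0_3, f1_3, f0_4, f1_4, f0_5, f1_5, f0_6, f1_6, f0_7, f1_7, f0_8, f1_8, f0_9, f1_9, f0_10, f1_10, f0_11, f1_11])
  refine ⟨h1, h2.trans ?_⟩
  calc _ ≤ 12 * 5 := Nat.mul_le_mul ((Finset.card_insert_le _ _).trans (by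
        repeat (refine Nat.succ_le_succ ((Finset.card_insert_le _ _).trans ?_))
        simp)) hH5
    _ = 60 := rfl

/-- A subgroup of index at most two of a simple noncommutative group is everything. -/
theorem eq_top_of_index_le_two {G : Type*} [Group G] [IsSimpleGroup G] (hG : ¬ IsCyclic G)
    (S : Subgroup G) (h0 : S.index ≠ 0) (h : S.index ≤ 2) : S = ⊤ := by
  rcases (by omega : S.index = 1 ∨ S.index = 2) with h1 | h2
  · exact Subgroup.index_eq_one.mp h1
  · rcases (Subgroup.normal_of_index_eq_two h2).eq_bot_or_eq_top with hb | ht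
    · rw [hb, Subgroup.index_bot] at h2
      haveI : Fact (Nat.Prime 2) := ⟨Nat.prime_two⟩
      exact absurd (isCyclic_of_prime_card h2) hG
    · exact ht

abbrev relsA5 : Set (FreeGroup (Fin 2)) := {FreeGroup.of (0 : Fin 2) ^ 3, FreeGroup.of (1 : Fin 2) ^ 5,
  (FreeGroup.of (0 : Fin 2) * FreeGroup.of 1) ^ 2}

abbrev relsSL25 : Set (FreeGroup (Fin 3)) :=
  {FreeGroup.of (0 : Fin 3) ^ 3, FreeGroup.of (1 : Fin 3) ^ 5, FreeGroup.of (2 : Fin 3) ^ 2,
    (FreeGroup.of (2 : Fin 3))⁻¹ * FreeGroup.of 0 * FreeGroup.of 2 * (FreeGroup.of (0 : Fin 3))⁻¹,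
    (FreeGroup.of (2 : Fin 3))⁻¹ * FreeGroup.of 1 * FreeGroup.of 2 * (FreeGroup.of (1 : Fin 3))⁻¹,
    (FreeGroup.of (0 : Fin 3) * FreeGroup.of 1) ^ 2 * (FreeGroup.of (2 : Fin 3))⁻¹}

theorem card_relsA5_le : Finite (PresentedGroup relsA5) ∧ Nat.card (PresentedGroup relsA5) ≤ 60 := by
  refine card_le_sixty (PresentedGroup.of (0 : Fin 2)) (PresentedGroup.of 1) ?_ ?_ ?_ ?_
  · rw [← PresentedGroup.closure_range_of relsA5]
    congr 1
    ext g
    simp [Fin.exists_fin_two, eq_comm]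
  · exact PresentedGroup.one_of_mem (rels := relsA5) (Or.inl rfl)
  · exact PresentedGroup.one_of_mem (rels := relsA5) (Or.inr (Or.inl rfl))
  · exact PresentedGroup.one_of_mem (rels := relsA5) (Or.inr (Or.inr rfl))

/-- `⟨x, y | x³ = y⁵ = (xy)² = 1⟩ ≅ A₅`. -/
theorem presented_iso_alt_five : Nonempty (PresentedGroup relsA5 ≃* alternatingGroup (Fin 5)) := by
  obtain ⟨hfin, hle⟩ := card_relsA5_le
  let X : alternatingGroup (Fin 5) :=
    ⟨Equiv.swap 0 1 * Equiv.swap 1 2, Equiv.Perm.mem_alternatingGroup.mpr (by decide)⟩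
  let Y : alternatingGroup (Fin 5) :=
    ⟨(finRotate 5) ^ 2, Equiv.Perm.mem_alternatingGroup.mpr (by decide +kernel)⟩
  let v : Fin 2 → alternatingGroup (Fin 5) := ![X, Y]
  have hX : X ^ 3 = 1 := by decide +kernel
  have hY : Y ^ 5 = 1 := by decide +kernel
  have hXY : (X * Y) ^ 2 = 1 := by decide +kernel
  have hv : ∀ r ∈ relsA5, FreeGroup.lift v r = 1 := by
    rintro r (rfl | rfl | rfl) <;> simp [v, hX, hY, hXY]
  set f := PresentedGroup.toGroup hv
  set S := f.range
  have hXS : X ∈ S := ⟨PresentedGroup.of 0, by simp [f, v]⟩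
  have hYS : Y ∈ S := ⟨PresentedGroup.of 1, by simp [f, v]⟩
  have h3 : 3 ∣ Nat.card S := (dvd_of_eq (orderOf_eq_prime (p := 3) hX (by decide +kernel)).symm).trans (Subgroup.orderOf_dvd_natCard S hXS)
  have h5 : 5 ∣ Nat.card S := by
    haveI : Fact (Nat.Prime 5) := ⟨by norm_num⟩
    exact (dvd_of_eq (orderOf_eq_prime (p := 5) hY (by decide +kernel)).symm).trans (Subgroup.orderOf_dvd_natCard S hYS)
  have h2 : 2 ∣ Nat.card S :=
    (dvd_of_eq (orderOf_eq_prime (p := 2) hXY (by decide +kernel)).symm).trans (Subgroup.orderOf_dvd_natCard S (mul_mem hXS hYS))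
  have h30 : 30 ∣ Nat.card S := by omega
  have hidx := S.card_mul_index
  rw [KnownA.card_alt_five] at hidx
  have h30' := Nat.le_of_dvd Nat.card_pos h30
  haveI := alternatingGroup.isSimpleGroup (α := Fin 5) (by simp)
  have hnc : ¬ IsCyclic (alternatingGroup (Fin 5)) := fun h => by
    have := h
    exact absurd (mul_comm' X Y) (by decide +kernel)
  have htop : S = ⊤ := eq_top_of_index_le_two hnc S (fun h => by simp [h] at hidx) (by nlinarith)
  have hsurj : Function.Surjective f := MonoidHom.range_eq_top.mp htop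
  haveI := hfin
  have hc : Nat.card (PresentedGroup relsA5) = Nat.card (alternatingGroup (Fin 5)) :=
    le_antisymm (hle.trans (KnownA.card_alt_five).ge) (Nat.card_le_card_of_surjective f hsurj)
  exact ⟨MulEquiv.ofBijective f ((Nat.bijective_iff_surjective_and_card f).mpr ⟨hsurj, hc⟩)⟩

theorem card_relsSL25_le :
    Finite (PresentedGroup relsSL25) ∧ Nat.card (PresentedGroup relsSL25) ≤ 120 := by
  set x : PresentedGroup relsSL25 := PresentedGroup.of 0
  set y : PresentedGroup relsSL25 := PresentedGroup.of 1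
  set z : PresentedGroup relsSL25 := PresentedGroup.of 2
  have hz2 : z ^ 2 = 1 := PresentedGroup.one_of_mem (rels := relsSL25) (Or.inr (Or.inr (Or.inl rfl)))
  have hzx : z⁻¹ * x * z * x⁻¹ = 1 :=
    PresentedGroup.one_of_mem (rels := relsSL25) (Or.inr (Or.inr (Or.inr (Or.inl rfl))))
  have hzy : z⁻¹ * y * z * y⁻¹ = 1 :=
    PresentedGroup.one_of_mem (rels := relsSL25) (Or.inr (Or.inr (Or.inr (Or.inr (Or.inl rfl)))))
  have hxy : (x * y) ^ 2 * z⁻¹ = 1 :=
    PresentedGroup.one_of_mem (rels := relsSL25) (Or.inr (Or.inr (Or.inr (Or.inr (Or.inr rfl)))))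
  rw [mul_inv_eq_one, mul_assoc, inv_mul_eq_iff_eq_mul] at hzx hzy
  have hgen : Subgroup.closure ({x, y, z} : Set (PresentedGroup relsSL25)) = ⊤ := by
    rw [← PresentedGroup.closure_range_of relsSL25]
    congr 1
    ext g
    simp [Fin.exists_fin_succ, eq_comm, x, y, z]
  have hzc : z ∈ Subgroup.center (PresentedGroup relsSL25) := by
    rw [Subgroup.mem_center_iff]
    intro g
    have hg : g ∈ Subgroup.closure ({x, y, z} : Set (PresentedGroup relsSL25)) := hgen ▸ trivial
    induction hg using Subgroup.closure_induction with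
    | mem u hu => rcases hu with rfl | rfl | rfl <;> [exact hzx; exact hzy; rfl]
    | one => simp
    | mul u w _ _ hu hw => exact (Commute.mul_left (show Commute u z from hu) (show Commute w z from hw)).eq
    | inv u _ hu => exact ((show Commute u z from hu).inv_left).eq
  set Z := Subgroup.zpowers z
  haveI hZn : Z.Normal := ⟨fun n hn g => by
    rw [Subgroup.mem_center_iff.mp (Subgroup.zpowers_le.mpr hzc hn) g, mul_inv_cancel_right]; exact hn⟩
  set π := QuotientGroup.mk' Z
  have hπz : π z = 1 := (QuotientGroup.eq_one_iff z).mpr (Subgroup.mem_zpowers z)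
  obtain ⟨hfin, hle⟩ := card_le_sixty (π x) (π y) (by
      refine eq_top_iff.mpr ?_
      rw [← Subgroup.map_top_of_surjective π (QuotientGroup.mk'_surjective Z), ← hgen,
        MonoidHom.map_closure, Subgroup.closure_le]
      rintro _ ⟨u, hu, rfl⟩
      rcases hu with rfl | rfl | rfl
      · exact Subgroup.subset_closure (by simp)
      · exact Subgroup.subset_closure (by simp)
      · rw [hπz]; exact one_mem _)
    (by rw [← map_pow, PresentedGroup.one_of_mem (rels := relsSL25) (Or.inl rfl) |> fun h => (h : x ^ 3 = 1), map_one])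
    (by rw [← map_pow, PresentedGroup.one_of_mem (rels := relsSL25) (Or.inr (Or.inl rfl)) |> fun h => (h : y ^ 5 = 1), map_one])
    (by rw [← map_mul, ← map_pow, mul_inv_eq_one.mp hxy, hπz])
  have hZ : Nat.card Z ≤ 2 := by
    rw [Nat.card_zpowers]; exact Nat.le_of_dvd (by norm_num) (orderOf_dvd_of_pow_eq_one hz2)
  haveI : Finite Z := Nat.finite_of_card_ne_zero (by
    rw [Nat.card_zpowers]; exact (orderOf_pos_iff.mpr (isOfFinOrder_iff_pow_eq_one.mpr ⟨2, by norm_num, hz2⟩)).ne')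
  refine ⟨Finite.of_equiv _ (Subgroup.groupEquivQuotientProdSubgroup (s := Z)).symm, ?_⟩
  rw [Subgroup.card_eq_card_quotient_mul_card_subgroup Z]
  exact (Nat.mul_le_mul hle hZ)

/-- Standard generator of order 3. -/
def sX : Matrix.SpecialLinearGroup (Fin 2) (ZMod 5) := ⟨!![0, -1; 1, -1], by decide +kernel⟩

/-- Standard generator of order 5. -/
def sY : Matrix.SpecialLinearGroup (Fin 2) (ZMod 5) := ⟨!![1, 1; 0, 1], by decide +kernel⟩

/-- The central involution. -/
def sZ : Matrix.SpecialLinearGroup (Fin 2) (ZMod 5) := ⟨!![-1, 0; 0, -1], by decide +kernel⟩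

/-- `SL(2,5)` has the presentation `⟨x, y, z | x³ = y⁵ = z² = 1, z central, (xy)² = z⟩`. -/
theorem presented_iso_sl2_five :
    Nonempty (PresentedGroup relsSL25 ≃* Matrix.SpecialLinearGroup (Fin 2) (ZMod 5)) := by
  haveI : Fact (Nat.Prime 5) := ⟨by norm_num⟩
  obtain ⟨hfin, hle⟩ := card_relsSL25_le
  let X := sX
  let Y := sY
  let Z := sZ
  let v : Fin 3 → Matrix.SpecialLinearGroup (Fin 2) (ZMod 5) := ![X, Y, Z]
  have hX : X ^ 3 = 1 := by show sX ^ 3 = 1; decide +kernel
  have hY : Y ^ 5 = 1 := by show sY ^ 5 = 1; decide +kernel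
  have hZ : Z ^ 2 = 1 := by show sZ ^ 2 = 1; decide +kernel
  have hXY : (X * Y) ^ 2 = Z := by show (sX * sY) ^ 2 = sZ; decide +kernel
  have hZX : Z⁻¹ * X * Z * X⁻¹ = 1 := by show sZ⁻¹ * sX * sZ * sX⁻¹ = 1; decide +kernel
  have hZY : Z⁻¹ * Y * Z * Y⁻¹ = 1 := by show sZ⁻¹ * sY * sZ * sY⁻¹ = 1; decide +kernel
  have hv : ∀ r ∈ relsSL25, FreeGroup.lift v r = 1 := by
    rintro r (rfl | rfl | rfl | rfl | rfl | rfl) <;> simp [v, hX, hY, hZ, hXY, hZX, hZY]
  set f := PresentedGroup.toGroup hv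
  set S := f.range
  have hXS : X ∈ S := ⟨PresentedGroup.of 0, by simp [f, v]⟩
  have hYS : Y ∈ S := ⟨PresentedGroup.of 1, by simp [f, v]⟩
  have h3 : 3 ∣ Nat.card S := by
    exact (dvd_of_eq (orderOf_eq_prime (p := 3) hX (show sX ≠ 1 by decide +kernel)).symm).trans (Subgroup.orderOf_dvd_natCard S hXS)
  have h5 : 5 ∣ Nat.card S :=
    (dvd_of_eq (orderOf_eq_prime (p := 5) hY (by decide +kernel)).symm).trans (Subgroup.orderOf_dvd_natCard S hYS)
  have h4 : 4 ∣ Nat.card S := by
    have h4' : orderOf (X * Y) = 2 ^ (1 + 1) := orderOf_eq_prime_pow (by decide +kernel) (by decide +kernel)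
    exact (show 4 = 2 ^ (1 + 1) by norm_num) ▸ h4' ▸ Subgroup.orderOf_dvd_natCard S (mul_mem hXS hYS)
  have h60 : 60 ∣ Nat.card S := by omega
  have hcard : Nat.card (Matrix.SpecialLinearGroup (Fin 2) (ZMod 5)) = 120 := by
    rw [Linear.card_SL_two, ZMod.card]; norm_num
  have hidx := S.card_mul_index
  rw [hcard] at hidx
  have h60' := Nat.le_of_dvd Nat.card_pos h60
  have hi : S.index = 1 ∨ S.index = 2 := by
    have : S.index ≠ 0 := fun h => by simp [h] at hidx
    have : S.index ≤ 2 := by nlinarith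
    omega
  have htop : S = ⊤ := by
    rcases hi with h | h
    · exact Subgroup.index_eq_one.mp h
    · haveI := Subgroup.normal_of_index_eq_two h
      refine RankTwoQd.sl2_eq_top fun u hu => ?_
      have hq : Nat.card (Matrix.SpecialLinearGroup (Fin 2) (ZMod 5) ⧸ S) = 2 := h
      have h1 : (u : Matrix.SpecialLinearGroup (Fin 2) (ZMod 5) ⧸ S) ^ 2 = 1 :=
        orderOf_dvd_iff_pow_eq_one.mp ((orderOf_dvd_natCard _).trans hq.dvd)
      have h2 : (u : Matrix.SpecialLinearGroup (Fin 2) (ZMod 5) ⧸ S) ^ 5 = 1 := by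
        rw [← QuotientGroup.mk_pow, hu]; rfl
      refine (QuotientGroup.eq_one_iff u).mp ?_
      calc (u : Matrix.SpecialLinearGroup (Fin 2) (ZMod 5) ⧸ S)
          = (u : Matrix.SpecialLinearGroup (Fin 2) (ZMod 5) ⧸ S) ^ 5 * (((u : Matrix.SpecialLinearGroup (Fin 2) (ZMod 5) ⧸ S) ^ 2) ^ 2)⁻¹ := by group
        _ = 1 := by rw [h1, h2]; simp
  have hsurj : Function.Surjective f := MonoidHom.range_eq_top.mp htop
  haveI := hfin
  have hc : Nat.card (PresentedGroup relsSL25) = Nat.card (Matrix.SpecialLinearGroup (Fin 2) (ZMod 5)) :=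
    le_antisymm (hle.trans hcard.ge) (Nat.card_le_card_of_surjective f hsurj)
  exact ⟨MulEquiv.ofBijective f ((Nat.bijective_iff_surjective_and_card f).mpr ⟨hsurj, hc⟩)⟩

theorem isSolvable_of_dvd_120 {G : Type*} [Group G] [Finite G] (h : Nat.card G ∣ 120)
    (h60 : Nat.card G ≠ 60) (h120 : Nat.card G ≠ 120) : Group.IsSolvable G := by
  by_cases h30 : Nat.card G = 30
  · haveI : IsZGroup G := IsZGroup.of_squarefree (by rw [h30]; decide +kernel)
    infer_instance
  · have hle := Nat.le_of_dvd (by norm_num) h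
    obtain ⟨n, hn⟩ : ∃ n, Nat.card G = n := ⟨_, rfl⟩
    rw [hn] at h h60 h120 h30 hle
    have : n ∣ 2 ^ 3 * 3 ∨ n ∣ 2 ^ 3 * 5 ∨ n ∣ 3 * 5 := by
      have hm : n ∈ Nat.divisors 120 := Nat.mem_divisors.mpr ⟨h, by norm_num⟩
      have he : Nat.divisors 120 = {1, 2, 3, 4, 5, 6, 8, 10, 12, 15, 20, 24, 30, 40, 60, 120} := by decide +kernel
      rw [he] at hm
      simp only [Finset.mem_insert, Finset.mem_singleton] at hm
      rcases hm with rfl | rfl | rfl | rfl | rfl | rfl | rfl | rfl | rfl | rfl | rfl | rfl | rfl | rfl | rfl | rfl <;>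
        first | omega | norm_num
    rcases this with h' | h' | h'
    · exact isSolvable_of_card_dvd_two_primes (a := 3) (b := 1) Nat.prime_two Nat.prime_three (hn ▸ by simpa using h')
    · exact isSolvable_of_card_dvd_two_primes (a := 3) (b := 1) Nat.prime_two Nat.prime_five (hn ▸ by simpa using h')
    · exact isSolvable_of_card_dvd_two_primes (a := 1) (b := 1) Nat.prime_three Nat.prime_five (hn ▸ by simpa using h')

/-- A nonsolvable group of order 120 with quaternion Sylow `2`-subgroups is `SL(2, 5)`. -/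
theorem iso_sl2_five_of_quaternion {G : Type*} [Group G] [Finite G] (hG : Nat.card G = 120)
    (hns : ¬ Group.IsSolvable G)
    (hQ : ∀ P : Sylow 2 G, Nonempty ((P : Subgroup G) ≃* QuaternionGroup 2)) :
    Nonempty (G ≃* Matrix.SpecialLinearGroup (Fin 2) (ZMod 5)) := by
  haveI : Fact (Nat.Prime 2) := ⟨Nat.prime_two⟩
  have hQ8 : ∀ a b : QuaternionGroup 2, a ^ 2 = 1 → b ^ 2 = 1 → a ≠ 1 → b ≠ 1 → a = b := by decide +kernel
  have huniq : ∀ P : Sylow 2 G, ∀ a b : G, a ∈ (P : Subgroup G) → b ∈ (P : Subgroup G) →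
      orderOf a = 2 → orderOf b = 2 → a = b := by
    intro P a b ha hb ha2 hb2
    obtain ⟨e⟩ := hQ P
    have key : ∀ c : (P : Subgroup G), orderOf (c : G) = 2 → e c ^ 2 = 1 ∧ e c ≠ 1 := fun c hc => by
      refine ⟨?_, fun h => ?_⟩
      · rw [← map_pow, show c ^ 2 = 1 from Subtype.ext (orderOf_dvd_iff_pow_eq_one.mp hc.dvd), map_one]
      · rw [(map_eq_one_iff e e.injective).mp h, OneMemClass.coe_one, orderOf_one] at hc
        omega
    obtain ⟨h1, h1'⟩ := key ⟨a, ha⟩ ha2
    obtain ⟨h2, h2'⟩ := key ⟨b, hb⟩ hb2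
    exact congrArg Subtype.val (e.injective (hQ8 _ _ h1 h2 h1' h2'))
  obtain ⟨z, hz⟩ := exists_prime_orderOf_dvd_card' (G := G) 2 (by rw [hG]; norm_num)
  have hzp : IsPGroup 2 (Subgroup.zpowers z) :=
    IsPGroup.of_card (n := 1) (by rw [Nat.card_zpowers, hz, pow_one])
  obtain ⟨P, hP⟩ := hzp.exists_le_sylow
  have hzP : z ∈ (P : Subgroup G) := hP (Subgroup.mem_zpowers z)
  obtain ⟨N, hNn, hNodd, hN⟩ := S0215.result P z hz hzP (fun g hg =>
    huniq P _ _ hg hzP (by rw [← MulAut.conj_apply, MulEquiv.orderOf_eq]; exact hz) hz)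
  have hNbot : N = ⊥ := by
    by_contra hne
    have hd : Nat.card N ∣ 120 := hG ▸ N.card_subgroup_dvd_card
    obtain ⟨j, hj⟩ := hNodd
    have hN1 : Nat.card N ≠ 1 := fun h => hne (Subgroup.card_eq_one.mp h)
    haveI : Group.IsSolvable N := isSolvable_of_dvd_120 hd (by omega) (by omega)
    have hq := N.card_eq_card_quotient_mul_card_subgroup
    rw [hG] at hq
    have hN3 : 3 ≤ Nat.card N := by omega
    haveI : Group.IsSolvable (G ⧸ N) :=
      isSolvable_of_dvd_120 ⟨Nat.card N, hq⟩ (by nlinarith) (by nlinarith)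
    exact hns (Group.isSolvable_of_ker_le_range N.subtype (QuotientGroup.mk' N) (by simp))
  have hzc : z ∈ Subgroup.center G := Subgroup.mem_center_iff.mpr fun g => by
    have h := hN g
    rw [hNbot, Subgroup.mem_bot, mul_inv_eq_one, mul_inv_eq_iff_eq_mul] at h
    exact h.symm
  have hinv : ∀ a : G, orderOf a = 2 → a = z := fun a ha => by
    obtain ⟨R, hR⟩ := (IsPGroup.of_card (n := 1) (G := Subgroup.zpowers a) (p := 2)
      (by rw [Nat.card_zpowers, ha, pow_one])).exists_le_sylow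
    obtain ⟨g, hg⟩ := MulAction.exists_smul_eq G P R
    have hzR : z ∈ (R : Subgroup G) := by
      rw [← hg, Sylow.coe_subgroup_smul]
      exact ⟨z, hzP, by
        show g * z * g⁻¹ = z
        rw [Subgroup.mem_center_iff.mp hzc g, mul_inv_cancel_right]⟩
    exact huniq R a z (hR (Subgroup.mem_zpowers a)) hzR ha hz
  set Z := Subgroup.zpowers z
  haveI hZn : Z.Normal := ⟨fun n hn g => by
    rw [Subgroup.mem_center_iff.mp (Subgroup.zpowers_le.mpr hzc hn) g, mul_inv_cancel_right]; exact hn⟩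
  have hZ : Nat.card Z = 2 := by rw [Nat.card_zpowers, hz]
  have hq := Z.card_eq_card_quotient_mul_card_subgroup
  rw [hG, hZ] at hq
  haveI : Group.IsSolvable Z := Group.isSolvable_of_comm fun a b => mul_comm' a b
  have hqns : ¬ Group.IsSolvable (G ⧸ Z) := fun h =>
    hns (haveI := h; Group.isSolvable_of_ker_le_range Z.subtype (QuotientGroup.mk' Z) (by simp))
  haveI : Nontrivial (G ⧸ Z) := Finite.one_lt_card_iff_nontrivial.mp (by omega)
  haveI hsimp : IsSimpleGroup (G ⧸ Z) := ⟨fun K hK => by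
    by_contra hcon
    push Not at hcon
    have hd : Nat.card K ∣ 60 := by
      have := K.card_subgroup_dvd_card
      rwa [show Nat.card (G ⧸ Z) = 60 by omega] at this
    have hq' := K.card_eq_card_quotient_mul_card_subgroup
    rw [show Nat.card (G ⧸ Z) = 60 by omega] at hq'
    have hK1 : Nat.card K ≠ 1 := fun h => hcon.1 (Subgroup.card_eq_one.mp h)
    have hK60 : Nat.card K ≠ 60 := fun h => hcon.2 (Subgroup.eq_top_of_card_eq K (by omega))
    haveI : Group.IsSolvable K :=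
      isSolvable_of_dvd_120 (hd.trans (by norm_num)) hK60 (fun h => by
        have := Nat.le_of_dvd (by norm_num) hd; omega)
    haveI : Group.IsSolvable ((G ⧸ Z) ⧸ K) :=
      isSolvable_of_dvd_120 ((Dvd.intro _ hq'.symm).trans (by norm_num))
        (fun h => by rw [h] at hq'; omega)
        (fun h => by rw [h] at hq'; omega)
    exact hqns (Group.isSolvable_of_ker_le_range K.subtype (QuotientGroup.mk' K) (by simp))⟩
  obtain ⟨e⟩ := S0494.result (G := G ⧸ Z) (by omega)
  let X : alternatingGroup (Fin 5) :=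
    ⟨Equiv.swap 0 1 * Equiv.swap 1 2, Equiv.Perm.mem_alternatingGroup.mpr (by decide)⟩
  let Y : alternatingGroup (Fin 5) :=
    ⟨(finRotate 5) ^ 2, Equiv.Perm.mem_alternatingGroup.mpr (by decide +kernel)⟩
  set π : G →* alternatingGroup (Fin 5) := e.toMonoidHom.comp (QuotientGroup.mk' Z)
  have hπs : Function.Surjective π := e.surjective.comp (QuotientGroup.mk'_surjective Z)
  have hker : ∀ g : G, π g = 1 → g = 1 ∨ g = z := fun g hg => by
    have h1 : g ∈ Z := (QuotientGroup.eq_one_iff g).mp ((map_eq_one_iff e e.injective).mp hg)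
    obtain ⟨k, rfl⟩ := h1
    show z ^ k = 1 ∨ z ^ k = z
    rw [← zpow_mod_orderOf, hz]
    rcases Int.emod_two_eq k with h | h
    · left; rw [show ((2 : ℕ) : ℤ) = 2 from rfl, h, zpow_zero]
    · right; rw [show ((2 : ℕ) : ℤ) = 2 from rfl, h, zpow_one]
  have hz2 : z ^ 2 = 1 := hz ▸ pow_orderOf_eq_one z
  have hπz : π z = 1 := by
    show e (QuotientGroup.mk' Z z) = 1
    rw [show QuotientGroup.mk' Z z = 1 from (QuotientGroup.eq_one_iff z).mpr (Subgroup.mem_zpowers z), map_one]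
  obtain ⟨x0, hx0⟩ := hπs X
  obtain ⟨y0, hy0⟩ := hπs Y
  set x := x0 ^ 4 with hxdef
  set y := y0 ^ 6 with hydef
  have hπx : π x = X := by rw [hxdef, map_pow, hx0]; decide +kernel
  have hπy : π y = Y := by rw [hydef, map_pow, hy0]; decide +kernel
  have hx : x ^ 3 = 1 := by
    rw [hxdef, ← pow_mul, show 4 * 3 = 3 * 4 by norm_num, pow_mul]
    rcases hker (x0 ^ 3) (by rw [map_pow, hx0]; decide +kernel) with h | h <;> rw [h]
    · exact one_pow _
    · rw [show 4 = 2 * 2 by norm_num, pow_mul, hz2, one_pow]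
  have hy : y ^ 5 = 1 := by
    rw [hydef, ← pow_mul, show 6 * 5 = 5 * 6 by norm_num, pow_mul]
    rcases hker (y0 ^ 5) (by rw [map_pow, hy0]; decide +kernel) with h | h <;> rw [h]
    · exact one_pow _
    · rw [show 6 = 2 * 3 by norm_num, pow_mul, hz2, one_pow]
  have hxy : (x * y) ^ 2 = z := by
    rcases hker ((x * y) ^ 2) (by rw [map_pow, map_mul, hπx, hπy]; decide +kernel) with h | h
    · have h1 : x * y ≠ 1 := fun h' => by
        have := congrArg π h'
        rw [map_mul, hπx, hπy, map_one] at this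
        exact absurd this (by decide +kernel)
      have := congrArg π (hinv _ (orderOf_eq_prime h h1))
      rw [map_mul, hπx, hπy, hπz] at this
      exact absurd this (by decide +kernel)
    · exact h
  let v : Fin 3 → G := ![x, y, z]
  have hcz : ∀ g : G, z⁻¹ * g * z * g⁻¹ = 1 := fun g => by
    rw [mul_assoc z⁻¹, Subgroup.mem_center_iff.mp hzc g]; group
  have hv : ∀ r ∈ relsSL25, FreeGroup.lift v r = 1 := by
    rintro r (rfl | rfl | rfl | rfl | rfl | rfl) <;> simp [v, hx, hy, hz2, hxy, hcz]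
  set f := PresentedGroup.toGroup hv
  obtain ⟨efree⟩ := presented_iso_alt_five
  have htop : f.range = ⊤ := by
    have hmap : Subgroup.closure ({X, Y} : Set (alternatingGroup (Fin 5))) = ⊤ := by
      set S := Subgroup.closure ({X, Y} : Set (alternatingGroup (Fin 5)))
      have hXS : X ∈ S := Subgroup.subset_closure (by simp)
      have hYS : Y ∈ S := Subgroup.subset_closure (by simp)
      have h3 : 3 ∣ Nat.card S := (dvd_of_eq (orderOf_eq_prime (p := 3) (by decide +kernel : X ^ 3 = 1) (by decide +kernel)).symm).trans (Subgroup.orderOf_dvd_natCard S hXS)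
      have h5 : 5 ∣ Nat.card S := by
        haveI : Fact (Nat.Prime 5) := ⟨by norm_num⟩
        exact (dvd_of_eq (orderOf_eq_prime (p := 5) (by decide +kernel : Y ^ 5 = 1) (by decide +kernel)).symm).trans (Subgroup.orderOf_dvd_natCard S hYS)
      have h2 : 2 ∣ Nat.card S :=
        (dvd_of_eq (orderOf_eq_prime (p := 2) (by decide +kernel : (X * Y) ^ 2 = 1) (by decide +kernel)).symm).trans (Subgroup.orderOf_dvd_natCard S (mul_mem hXS hYS))
      have hidx := S.card_mul_index
      rw [KnownA.card_alt_five] at hidx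
      have h30' := Nat.le_of_dvd Nat.card_pos (show 30 ∣ Nat.card S by omega)
      haveI := alternatingGroup.isSimpleGroup (α := Fin 5) (by simp)
      exact eq_top_of_index_le_two (fun h => by
        have := h
        exact absurd (mul_comm' X Y) (by decide +kernel)) S (fun h => by simp [h] at hidx) (by nlinarith)
    have hxR : x ∈ f.range := ⟨PresentedGroup.of 0, by simp [f, v]⟩
    have hyR : y ∈ f.range := ⟨PresentedGroup.of 1, by simp [f, v]⟩
    have hzR : z ∈ f.range := ⟨PresentedGroup.of 2, by simp [f, v]⟩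
    refine eq_top_iff.mpr fun g _ => ?_
    have hg : π g ∈ (f.range).map π := by
      refine (show Subgroup.closure ({X, Y} : Set (alternatingGroup (Fin 5))) ≤ (f.range).map π from ?_) (hmap ▸ trivial)
      rw [Subgroup.closure_le]
      rintro _ (rfl | rfl)
      · exact ⟨x, hxR, hπx⟩
      · exact ⟨y, hyR, hπy⟩
    obtain ⟨r, hr, hrg⟩ := hg
    rcases hker (r⁻¹ * g) (by rw [map_mul, map_inv, hrg, inv_mul_cancel]) with h | h
    · rwa [← inv_mul_eq_one.mp h]
    · rw [← inv_mul_eq_iff_eq_mul.mp h |> Eq.symm]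
      exact mul_mem hr hzR
  obtain ⟨hfin, hle⟩ := card_relsSL25_le
  haveI := hfin
  have hsurj : Function.Surjective f := MonoidHom.range_eq_top.mp htop
  have hc : Nat.card (PresentedGroup relsSL25) = Nat.card G :=
    le_antisymm (hle.trans hG.ge) (Nat.card_le_card_of_surjective f hsurj)
  obtain ⟨e2⟩ := presented_iso_sl2_five
  exact ⟨((MulEquiv.ofBijective f ((Nat.bijective_iff_surjective_and_card f).mpr ⟨hsurj, hc⟩)).symm).trans e2⟩

end Cfsg.Agent.Core.Icosa
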