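import Cfsg.Agent.Core.OrthCohomology

/-!
# The certificates for `Ω₄⁻(2)`, `Ω₆⁻(2)`, `Ω₈⁺(2)`
-/

set_option autoImplicit false
set_option maxRecDepth 100000

namespace Cfsg.Agent.Core.OrthCohomology

open Matrix Cfsg.Agent.Forms

/-- Numbering of the coordinates. -/
def ePlus (m : ℕ) : Fin m ⊕ Fin m ≃ Fin (m + m) := finSumFinEquiv

/-- Numbering of the coordinates. -/
def eMinus (m : ℕ) : (Fin m ⊕ Fin m) ⊕ Fin 2 ≃ Fin (m + m + 2) :=
  (Equiv.sumCongr finSumFinEquiv (Equiv.refl _)).trans finSumFinEquiv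

def fourA : List ℕ := [3, 5, 8, 4]
def fourR : List (List ℕ) := [[2, 1, 4, 8], [11, 2, 14, 8], [1, 2, 4, 12], [1, 2, 12, 8]]
def fourT : List (List ℕ) := [[2, 11, 14, 8], [15, 2, 10, 12], [1, 2, 12, 4]]
def fourL1 : List (List ℕ) := [[0, 0, 4, 8], [0, 8, 8, 0], [1, 0, 0, 0]]
def fourL2 : List (List ℕ) := [[0, 0, 0, 0], [0, 0, 10, 2], [0, 4, 0, 5]]
def fourK : List (List ℕ) := [[0, 1, 0, 2], [0, 0, 1, 0], [4, 4, 0, 4]]
def fourO : List (ℕ × ℕ × ℕ) := [(3, 0, 0), (6, 1, 0), (5, 0, 1), (14, 2, 1), (13, 2, 2), (10, 3, 3), (8, 1, 4), (9, 3, 4), (12, 3, 6), (4, 2, 8)]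

def sixA : List ℕ := [5, 11, 18, 10, 7, 32]
def sixR : List (List ℕ) := [[4, 2, 1, 8, 16, 32], [15, 12, 4, 6, 16, 32], [1, 42, 4, 8, 56, 32], [1, 8, 4, 2, 16, 32], [12, 15, 9, 8, 16, 32], [1, 2, 4, 8, 16, 48]]
def sixT : List (List ℕ) := [[4, 12, 15, 6, 16, 32], [39, 12, 4, 46, 56, 32], [1, 42, 4, 2, 50, 32], [12, 8, 9, 15, 16, 32], [1, 58, 4, 8, 40, 48]]
def sixL1 : List (List ℕ) := [[0, 0, 12, 4, 16, 32], [0, 36, 4, 36, 20, 32], [1, 32, 0, 0, 48, 32], [0, 32, 32, 4, 16, 32], [1, 0, 4, 32, 36, 4]]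
def sixL2 : List (List ℕ) := [[0, 0, 0, 0, 0, 0], [0, 16, 0, 20, 4, 0], [0, 9, 8, 0, 9, 0], [0, 16, 20, 4, 0, 0], [0, 0, 0, 0, 40, 8]]
def sixK : List (List ℕ) := [[0, 0, 1, 3, 0, 0], [0, 0, 0, 0, 0, 1], [8, 0, 8, 8, 0, 8], [0, 1, 0, 1, 0, 1], [0, 0, 0, 0, 2, 0]]
def sixO : List (ℕ × ℕ × ℕ) := [(5, 0, 0), (14, 1, 0), (11, 0, 1), (28, 2, 1), (25, 2, 2), (22, 3, 3), (60, 5, 3), (18, 1, 4), (19, 3, 4), (57, 5, 4), (17, 4, 5), (54, 5, 5), (24, 3, 7), (50, 5, 7), (20, 4, 8), (51, 5, 8), (49, 5, 10), (36, 2, 11), (10, 2, 12), (31, 4, 12), (56, 5, 12), (32, 2, 13), (52, 5, 14), (33, 2, 15), (35, 2, 16), (47, 1, 17), (13, 4, 18), (63, 5, 19), (38, 2, 22), (40, 1, 24), (41, 3, 24), (7, 3, 26), (44, 3, 28), (34, 3, 29), (48, 2, 33), (16, 5, 34)]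

def eightA : List ℕ := [17, 35, 21, 68, 23, 34, 27, 162]
def eightR : List (List ℕ) := [[16, 2, 4, 8, 1, 32, 64, 128], [51, 48, 4, 8, 16, 18, 64, 128], [80, 2, 85, 8, 65, 32, 64, 128], [1, 2, 64, 8, 16, 32, 4, 128], [112, 115, 117, 8, 97, 32, 64, 128], [1, 32, 4, 8, 16, 2, 64, 128], [176, 179, 4, 185, 161, 32, 64, 128], [1, 40, 4, 8, 16, 10, 64, 170]]
def eightT : List (List ℕ) := [[16, 48, 4, 8, 51, 18, 64, 128], [51, 97, 85, 8, 65, 67, 64, 128], [20, 2, 85, 8, 5, 32, 4, 128], [112, 115, 64, 8, 97, 32, 117, 128], [82, 115, 87, 8, 67, 2, 64, 128], [176, 32, 4, 185, 161, 179, 64, 128], [90, 115, 95, 8, 75, 10, 64, 170]]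
def eightL1 : List (List ℕ) := [[0, 0, 4, 8, 48, 16, 64, 128], [16, 0, 52, 8, 32, 16, 0, 128], [0, 48, 64, 8, 64, 32, 16, 128], [0, 82, 64, 8, 64, 0, 16, 128], [0, 32, 48, 8, 96, 80, 64, 128], [0, 32, 4, 184, 160, 144, 128, 128], [0, 40, 48, 8, 96, 80, 64, 240]]
def eightL2 : List (List ℕ) := [[0, 0, 0, 0, 0, 0, 0, 0], [20, 0, 4, 0, 4, 0, 16, 0], [0, 96, 64, 0, 0, 0, 64, 0], [0, 16, 2, 0, 16, 16, 18, 0], [0, 32, 96, 0, 0, 32, 0, 0], [0, 8, 0, 0, 0, 8, 16, 0], [0, 128, 192, 0, 0, 128, 0, 128]]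
def eightK : List (List ℕ) := [[0, 0, 0, 0, 1, 3, 0, 0], [0, 0, 0, 0, 0, 0, 2, 0], [0, 0, 1, 0, 0, 0, 0, 0], [0, 1, 0, 0, 0, 1, 0, 0], [1, 1, 0, 0, 1, 0, 0, 0], [0, 0, 0, 0, 0, 0, 0, 1], [0, 0, 0, 1, 0, 0, 0, 0]]
def eightO : List (ℕ × ℕ × ℕ) := [(17, 0, 0), (50, 1, 0), (35, 0, 1), (39, 2, 1), (54, 2, 2), (99, 3, 3), (21, 1, 4), (114, 3, 4), (116, 4, 5), (81, 3, 6), (101, 4, 7), (86, 5, 8), (214, 7, 8), (68, 2, 9), (70, 4, 9), (71, 5, 10), (199, 7, 10), (77, 6, 11), (244, 7, 11), (83, 4, 13), (100, 5, 14), (228, 7, 14), (92, 6, 15), (229, 7, 15), (239, 7, 17), (227, 4, 18), (23, 3, 19), (113, 5, 19), (241, 7, 19), (127, 6, 20), (198, 7, 20), (254, 7, 22), (242, 4, 23), (248, 4, 24), (167, 3, 25), (53, 5, 26), (181, 7, 26), (106, 6, 27), (211, 7, 27), (221, 7, 29), (209, 4, 30), (233, 4, 31), (182, 3, 32), (188, 3, 33), (218, 5, 33), (178, 2, 34), (34, 4, 35), (46, 6, 35), (151, 7, 35), (162, 4, 36), (200,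 7, 37), (196, 4, 38), (202, 4, 39), (149, 3, 40), (173, 3, 41), (203, 5, 41), (163, 2, 42), (169, 2, 43), (158, 5, 43), (145, 1, 45), (57, 6, 46), (140, 7, 47), (223, 4, 50), (142, 3, 52), (232, 5, 52), (184, 2, 54), (143, 5, 54), (138, 1, 57), (139, 5, 57), (137, 4, 58), (27, 5, 60), (253, 5, 62), (172, 5, 63), (154, 5, 65), (152, 4, 66), (168, 5, 67), (156, 4, 68), (43, 7, 69), (187, 4, 72), (141, 4, 73), (58, 7, 74), (191, 4, 75), (216, 3, 76), (62, 7, 76), (25, 7, 78), (201, 3, 79), (47, 7, 79), (251, 3, 81), (29, 7, 81), (122, 7, 82), (107, 7, 85), (238, 2, 87), (89, 7, 87), (109, 4, 89), (124, 4, 90), (76, 7, 91), (78, 4, 92), (79, 5, 93), (94, 5, 94), (91, 4, 95), (108, 5, 96), (84, 6, 97), (69, 6, 98), (31, 3, 99), (121, 5, 99), (119, 6, 100), (61, 5, 103), (98, 6, 104), (42, 4, 106), (38, 6, 106), (49, 6, 108), (136, 7, 108), (19, 5, 110), (147, 7, 110), (177, 7, 112), (166, 4, 114), (226, 3,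 115), (247, 2, 116), (212, 1, 117), (197, 0, 118)]

/-- The roots. -/
def foura (i : Fin 4) := vec (eMinus 1) (fourA.getD i.val 0)

/-- The matrices of the roots. -/
def fourr (i : Fin 4) := mat (eMinus 1) (fourR.getD i.val [])

theorem four_ha : ∀ i, Cfsg.quadFormMinus 1 (ZMod 2) 1 1 (foura i) = 1 := by decide +kernel

theorem four_hR : ∀ i, 1 - Matrix.vecMulVec (foura i) (Cfsg.polarVec (Cfsg.quadFormMinus 1 (ZMod 2) 1 1) (foura i)) = fourr i := by
  decide +kernel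

/-- The certificate. -/
def fourCert : Cert (qMinus 1 (ZMod 2) 1 1) 3 where
  a := foura
  R := fourr
  p := ![0, 1, 2]
  j k := ⟨((![0, 1, 2] : Fin 3 → Fin 4) k).val - 1, by revert k; decide⟩
  T k := mat (eMinus 1) (fourT.getD k.val [])
  L1 k := mat (eMinus 1) (fourL1.getD k.val [])
  L2 k := mat (eMinus 1) (fourL2.getD k.val [])
  K k := mat (eMinus 1) (fourK.getD k.val [])
  hp := by decide
  ha i := by rw [coe_qMinus]; exact four_ha i
  hR i := by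
    rw [coe_qMinus, Cfsg.reflectionMatrix, four_ha, inv_one, one_smul]
    exact four_hR i
  hT := by decide +kernel
  cube := by decide +kernel
  rel := by decide +kernel
  cert := by decide +kernel
  kill := by decide +kernel
  cover u hu := by
    rw [coe_qMinus] at hu
    exact cover_of_list (eMinus 1) (foura 0) fourr fourO (by decide +kernel) (by decide +kernel)
      (by decide +kernel) (Cfsg.quadFormMinus 1 (ZMod 2) 1 1) (by decide +kernel) u hu

/-- The roots. -/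
def sixa (i : Fin 6) := vec (eMinus 2) (sixA.getD i.val 0)

/-- The matrices of the roots. -/
def sixr (i : Fin 6) := mat (eMinus 2) (sixR.getD i.val [])

theorem six_ha : ∀ i, Cfsg.quadFormMinus 2 (ZMod 2) 1 1 (sixa i) = 1 := by decide +kernel

theorem six_hR : ∀ i, 1 - Matrix.vecMulVec (sixa i) (Cfsg.polarVec (Cfsg.quadFormMinus 2 (ZMod 2) 1 1) (sixa i)) = sixr i := by
  decide +kernel

/-- The certificate. -/
def sixCert : Cert (qMinus 2 (ZMod 2) 1 1) 5 where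
  a := sixa
  R := sixr
  p := ![0, 1, 2, 3, 2]
  j k := ⟨((![0, 1, 2, 3, 2] : Fin 5 → Fin 6) k).val - 1, by revert k; decide⟩
  T k := mat (eMinus 2) (sixT.getD k.val [])
  L1 k := mat (eMinus 2) (sixL1.getD k.val [])
  L2 k := mat (eMinus 2) (sixL2.getD k.val [])
  K k := mat (eMinus 2) (sixK.getD k.val [])
  hp := by decide
  ha i := by rw [coe_qMinus]; exact six_ha i
  hR i := by
    rw [coe_qMinus, Cfsg.reflectionMatrix, six_ha, inv_one, one_smul]
    exact six_hR i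
  hT := by decide +kernel
  cube := by decide +kernel
  rel := by decide +kernel
  cert := by decide +kernel
  kill := by decide +kernel
  cover u hu := by
    rw [coe_qMinus] at hu
    exact cover_of_list (eMinus 2) (sixa 0) sixr sixO (by decide +kernel) (by decide +kernel)
      (by decide +kernel) (Cfsg.quadFormMinus 2 (ZMod 2) 1 1) (by decide +kernel) u hu

/-- The roots. -/
def eighta (i : Fin 8) := vec (ePlus 4) (eightA.getD i.val 0)

/-- The matrices of the roots. -/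
def eightr (i : Fin 8) := mat (ePlus 4) (eightR.getD i.val [])

theorem eight_ha : ∀ i, Cfsg.quadFormPlus 4 (ZMod 2) (eighta i) = 1 := by decide +kernel

theorem eight_hR : ∀ i, 1 - Matrix.vecMulVec (eighta i) (Cfsg.polarVec (Cfsg.quadFormPlus 4 (ZMod 2)) (eighta i)) = eightr i := by
  decide +kernel

/-- The certificate. -/
def eightCert : Cert (qPlus 4 (ZMod 2)) 7 where
  a := eighta
  R := eightr
  p := ![0, 1, 2, 3, 4, 5, 4]
  j k := ⟨((![0, 1, 2, 3, 4, 5, 4] : Fin 7 → Fin 8) k).val - 1, by revert k; decide⟩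
  T k := mat (ePlus 4) (eightT.getD k.val [])
  L1 k := mat (ePlus 4) (eightL1.getD k.val [])
  L2 k := mat (ePlus 4) (eightL2.getD k.val [])
  K k := mat (ePlus 4) (eightK.getD k.val [])
  hp := by decide
  ha i := by rw [coe_qPlus]; exact eight_ha i
  hR i := by
    rw [coe_qPlus, Cfsg.reflectionMatrix, eight_ha, inv_one, one_smul]
    exact eight_hR i
  hT := by decide +kernel
  cube := by decide +kernel
  rel := by decide +kernel
  cert := by decide +kernel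
  kill := by decide +kernel
  cover u hu := by
    rw [coe_qPlus] at hu
    exact cover_of_list (ePlus 4) (eighta 0) eightr eightO (by decide +kernel) (by decide +kernel)
      (by decide +kernel) (Cfsg.quadFormPlus 4 (ZMod 2)) (by decide +kernel) u hu

end Cfsg.Agent.Core.OrthCohomology
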