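/-
Core library: Sylow intersections modulo a normal subgroup of coprime order.
-/
import Cfsg.Agent.Core.PiSeparable
import Cfsg.Prelude.Def_CaseTheorems
import Mathlib.GroupTheory.SpecificGroups.Cyclic

set_option autoImplicit false
set_option linter.style.haveILetI false
set_option linter.unusedSectionVars false

namespace Cfsg.Agent.Core

open Cfsg

variable {G : Type*} [Group G] [Finite G] {p : ℕ} [hp : Fact p.Prime]

theorem pCore_le_coe_sylow (P : Sylow p G) : pCore p G ≤ (P : Subgroup G) := pCore_le_sylow P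

/-- A Sylow intersection of the quotient is the image of an isomorphic one. -/
theorem exists_sylow_inter_lift (N : Subgroup G) [N.Normal] (hN : ¬ p ∣ Nat.card N)
    (S' T' : Sylow p (G ⧸ N)) (hne : S' ≠ T') :
    ∃ S T : Sylow p G, S ≠ T ∧ ∃ D : Subgroup G, D ≤ (S : Subgroup G) ⊓ (T : Subgroup G) ∧
      Nonempty (D ≃* ↥((S' : Subgroup (G ⧸ N)) ⊓ (T' : Subgroup (G ⧸ N)))) := by
  set π := QuotientGroup.mk' N
  obtain ⟨S₀⟩ := (inferInstance : Nonempty (Sylow p G))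
  have lift : ∀ R : Sylow p (G ⧸ N), ∃ R₀ : Sylow p G, (R₀ : Subgroup G).map π = R := by
    intro R
    obtain ⟨g, hg⟩ := MulAction.exists_smul_eq (G ⧸ N) (S₀.mapSurjective (QuotientGroup.mk'_surjective N)) R
    obtain ⟨a, rfl⟩ := QuotientGroup.mk'_surjective N g
    refine ⟨a • S₀, ?_⟩
    rw [← hg, Sylow.coe_subgroup_smul, Sylow.coe_subgroup_smul]
    ext x
    constructor
    · rintro ⟨_, ⟨y, hy, rfl⟩, rfl⟩
      refine ⟨π y, ⟨y, hy, rfl⟩, ?_⟩
      show π a * π y * (π a)⁻¹ = π (a * y * a⁻¹)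
      simp only [map_mul, map_inv]
    · rintro ⟨_, ⟨y, hy, rfl⟩, rfl⟩
      refine ⟨a * y * a⁻¹, ⟨y, hy, rfl⟩, ?_⟩
      show π (a * y * a⁻¹) = π a * π y * (π a)⁻¹
      simp only [map_mul, map_inv]
  obtain ⟨S, hS⟩ := lift S'
  set D := (S : Subgroup G) ⊓ ((T' : Subgroup (G ⧸ N)).comap π) with hD
  set U := (T' : Subgroup (G ⧸ N)).comap π
  obtain ⟨T₀, hT₀⟩ := lift T'
  have hT₀U : (T₀ : Subgroup G) ≤ U := Subgroup.map_le_iff_le_comap.mp hT₀.le
  obtain ⟨R, hR⟩ := (S.isPGroup'.to_le (inf_le_left : D ≤ S)).comap_subtype.exists_le_sylow (G := U)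
  obtain ⟨u, hu⟩ := MulAction.exists_smul_eq U (T₀.subtype hT₀U) R
  set T : Sylow p G := (u : G) • T₀
  have hTU : (T : Subgroup G) ≤ U := by
    rw [Sylow.coe_subgroup_smul]
    intro x hx
    obtain ⟨y, hy, rfl⟩ := hx
    exact U.mul_mem (U.mul_mem u.2 (hT₀U hy)) (U.inv_mem u.2)
  have hDT : D ≤ (T : Subgroup G) := by
    intro x hx
    have h1 : (⟨x, hx.2⟩ : U) ∈ (u • T₀.subtype hT₀U : Sylow p U) := by
      rw [hu]; exact hR (Subgroup.mem_subgroupOf.mpr hx)
    rw [Sylow.smul_subtype] at h1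
    exact h1
  have hne' : S ≠ T := fun h => hne (Sylow.ext (le_antisymm ?_ ?_))
  · refine ⟨S, T, hne', D, le_inf inf_le_left hDT, ⟨?_⟩⟩
    have hinj : Function.Injective (π.comp D.subtype) := by
      rw [← MonoidHom.ker_eq_bot_iff, Subgroup.eq_bot_iff_forall]
      rintro ⟨x, hx⟩ hxN
      obtain ⟨k, hk⟩ := IsPGroup.iff_card.mp S.isPGroup'
      refine Subtype.ext (orderOf_eq_one_iff.mp (Nat.eq_one_of_dvd_coprimes
        ((hp.out.coprime_iff_not_dvd.mpr hN).pow_left k) (hk ▸ Subgroup.orderOf_dvd_natCard _ hx.1)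
        (Subgroup.orderOf_dvd_natCard N ((QuotientGroup.eq_one_iff x).mp hxN))))
    refine (MonoidHom.ofInjective hinj).trans (MulEquiv.subgroupCongr ?_)
    ext y
    constructor
    · rintro ⟨⟨x, hx⟩, rfl⟩
      exact ⟨hS.le ⟨x, hx.1, rfl⟩, hx.2⟩
    · rintro ⟨h1, h2⟩
      obtain ⟨x, hx, rfl⟩ := hS.ge h1
      exact ⟨⟨x, hx, h2⟩, rfl⟩
  · rw [← hS, h]
    exact Subgroup.map_le_iff_le_comap.mpr hTU
  · refine (S'.3 T'.isPGroup' ?_).le
    rw [← hS, h]
    exact Subgroup.map_le_iff_le_comap.mpr hTU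

/-- A solvable group with trivial `O_{p'}` whose `O_p` has a `p`-group of automorphisms is a `p`-group. -/
theorem isPGroup_of_mulAut_pCore [Group.IsSolvable G] (h0 : pPrimeCore p G = ⊥)
    (hA : IsPGroup p (MulAut ↥(pCore p G))) : IsPGroup p G := by
  have hC := centralizer_pCore_le isPSolvable_of_isSolvable h0
  intro g
  obtain ⟨k, hk⟩ := hA (MulAut.conjNormal g)
  have hg : g ^ p ^ k ∈ pCore p G := by
    refine hC (Subgroup.mem_centralizer_iff.mpr fun v hv => ?_)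
    have h1 : MulAut.conjNormal (g ^ p ^ k) (⟨v, hv⟩ : pCore p G) = ⟨v, hv⟩ := by rw [map_pow, hk]; rfl
    have h2 := congrArg Subtype.val h1
    rw [MulAut.conjNormal_apply] at h2
    exact (mul_inv_eq_iff_eq_mul.mp h2).symm
  obtain ⟨j, hj⟩ := isPGroup_pCore p G ⟨_, hg⟩
  exact ⟨k + j, by rw [pow_add, pow_mul]; exact congrArg Subtype.val hj⟩

theorem exists_sylow_ne (h : ¬ ∃ P : Sylow p G, (P : Subgroup G).Normal) : ∃ S T : Sylow p G, S ≠ T := by
  obtain ⟨S⟩ := (inferInstance : Nonempty (Sylow p G))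
  by_contra hall
  simp only [not_exists, not_not] at hall
  refine h ⟨S, Subgroup.normalizer_eq_top_iff.mp (top_le_iff.mp fun g _ => ?_)⟩
  have h1 := (hall (g • S) S)
  rwa [Sylow.smul_eq_iff_mem_normalizer] at h1

end Cfsg.Agent.Core
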