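/-
Core library: Thompson's transitivity theorem for groups with p-constrained p-local subgroups.
-/
import Cfsg.Agent.OddChar.InvariantCore
import Cfsg.Agent.Components.Transitivity
import Cfsg.Agent.PLocal.ZJApp
import Mathlib.GroupTheory.Nilpotent

set_option autoImplicit false
set_option linter.style.haveILetI false
set_option linter.unusedSectionVars false

namespace Cfsg.Agent.Core.Transitive

open Cfsg
open scoped commutatorElement

variable {G : Type*} [Group G] [Finite G]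

/-- `⁅⁅a, b⁆, c⁆ = 1` inside every `p`-subgroup. -/
def ClassTwoLocally (p : ℕ) (X : Type*) [Group X] : Prop :=
  ∀ U : Subgroup X, IsPGroup p U → ∀ a ∈ U, ∀ b ∈ U, ∀ c ∈ U, ⁅⁅a, b⁆, c⁆ = 1

theorem classTwoLocally_of_sylow {p : ℕ} [Fact p.Prime]
    (h : ∀ S : Sylow p G, Group.IsNilpotent (S : Subgroup G) ∧ Group.nilpotencyClass (S : Subgroup G) ≤ 2) :
    ClassTwoLocally p G := by
  intro U hU a ha b hb c hc
  obtain ⟨S, hS⟩ := hU.exists_le_sylow
  obtain ⟨hn, h2⟩ := h S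
  haveI := hn
  have h3 : Subgroup.lowerCentralSeries (⊤ : Subgroup (S : Subgroup G)) 2 = ⊥ :=
    Subgroup.lowerCentralSeries_eq_bot_iff_nilpotencyClass_le.mpr h2
  have hmem : ⁅⁅(⟨a, hS ha⟩ : (S : Subgroup G)), (⟨b, hS hb⟩ : (S : Subgroup G))⁆, (⟨c, hS hc⟩ : (S : Subgroup G))⁆ ∈
      Subgroup.lowerCentralSeries (⊤ : Subgroup (S : Subgroup G)) 2 := by
    rw [Subgroup.lowerCentralSeries_succ, Subgroup.lowerCentralSeries_succ, Subgroup.lowerCentralSeries_zero]
    exact Subgroup.commutator_mem_commutator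
      (Subgroup.commutator_mem_commutator (Subgroup.mem_top _) (Subgroup.mem_top _)) (Subgroup.mem_top _)
  rw [h3, Subgroup.mem_bot] at hmem
  exact congrArg Subtype.val hmem

theorem ClassTwoLocally.subgroup {p : ℕ} (h : ClassTwoLocally p G) (H : Subgroup G) :
    ClassTwoLocally p H := fun U hU a ha b hb c hc =>
  Subtype.ext (h (U.map H.subtype) (hU.map _) _ ⟨a, ha, rfl⟩ _ ⟨b, hb, rfl⟩ _ ⟨c, hc, rfl⟩)

theorem ClassTwoLocally.quotient {p : ℕ} [Fact p.Prime] (h : ClassTwoLocally p G) (N : Subgroup G) [N.Normal] :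
    ClassTwoLocally p (G ⧸ N) := by
  intro U hU a ha b hb c hc
  obtain ⟨S, hS⟩ := hU.exists_le_sylow
  obtain ⟨P₀⟩ : Nonempty (Sylow p G) := inferInstance
  obtain ⟨g, hg⟩ := MulAction.exists_smul_eq (G ⧸ N) (P₀.mapSurjective (QuotientGroup.mk'_surjective N)) S
  obtain ⟨g₀, rfl⟩ := QuotientGroup.mk'_surjective N g
  have key : ∀ x ∈ U, ∃ y ∈ (P₀ : Subgroup G),
      x = QuotientGroup.mk' N g₀ * QuotientGroup.mk' N y * (QuotientGroup.mk' N g₀)⁻¹ := fun x hx => by
    have h1 := hS hx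
    rw [← hg, Sylow.coe_subgroup_smul, Core.mem_conj_smul_iff] at h1
    obtain ⟨y, hy, hye⟩ := h1
    exact ⟨y, hy, by rw [hye]; group⟩
  obtain ⟨a', ha', rfl⟩ := key a ha
  obtain ⟨b', hb', rfl⟩ := key b hb
  obtain ⟨c', hc', rfl⟩ := key c hc
  rw [← conjugate_commutatorElement, ← conjugate_commutatorElement, ← map_commutatorElement, ← map_commutatorElement,
    h _ P₀.isPGroup' a' ha' b' hb' c' hc', map_one, mul_one, mul_inv_cancel]

/-- The class two substitute for Baer's trick. -/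
theorem eq_bot_of_classTwo {p : ℕ} [hp : Fact p.Prime] (hcl : ClassTwoLocally p G) {R B K : Subgroup G}
    [R.Normal] (hR : IsPGroup p R) (hCR : Subgroup.centralizer (R : Set G) ≤ R) (hB : IsPGroup p B)
    (hK : (Nat.card K).Coprime p) (hBK : B ≤ Subgroup.normalizer (K : Set G))
    (hfix : ∀ z ∈ R, z ∈ Subgroup.centralizer (B : Set G) → z ∈ Subgroup.centralizer (K : Set G)) :
    K = ⊥ := by
  have hBR : B ≤ Subgroup.normalizer (R : Set G) := le_top.trans (Subgroup.normalizer_eq_top R).ge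
  have hT : IsPGroup p (R ⊔ B : Subgroup G) := hR.to_sup_of_normal_left' hB hBR
  have hc2 := hcl _ hT
  have hone : ∀ g ∈ K, g ∈ R → g = 1 := fun g hg hgR => ThompsonComplement.eq_one_of_mem hR hgR
    (hK.coprime_dvd_left (Subgroup.orderOf_dvd_natCard _ hg))
  have hRT : ∀ {x : G}, x ∈ R → x ∈ R ⊔ B := fun hx => Subgroup.mem_sup_left hx
  have hBT : ∀ {x : G}, x ∈ B → x ∈ R ⊔ B := fun hx => Subgroup.mem_sup_right hx
  have hz : ∀ r ∈ R, ∀ b ∈ B, ∀ k ∈ K, ⁅b, r⁆ * k = k * ⁅b, r⁆ := fun r hr b hb k hk => by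
    refine (Subgroup.mem_centralizer_iff.mp (hfix _ ?_ (Subgroup.mem_centralizer_iff.mpr fun c hc => ?_)) k hk).symm
    · rw [commutatorElement_def]
      exact mul_mem ((inferInstance : R.Normal).conj_mem r hr b) (inv_mem hr)
    · exact (commutatorElement_eq_one_iff_mul_comm.mp (hc2 b (hBT hb) r (hRT hr) c (hBT hc))).symm
  have hcomm : ∀ k ∈ K, ∀ b ∈ B, b * k * b⁻¹ = k := by
    intro k hk b hb
    set d := k⁻¹ * (b * k * b⁻¹) with hd
    have hdK : d ∈ K := mul_mem (inv_mem hk) ((Subgroup.mem_normalizer_iff.mp (hBK hb) k).mp hk)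
    suffices hdC : d ∈ Subgroup.centralizer (R : Set G) from (inv_mul_eq_one.mp (hone d hdK (hCR hdC))).symm
    refine Subgroup.mem_centralizer_iff.mpr fun r hr => ?_
    set z1 := ⁅b⁻¹, r⁆ with hz1
    set u := k * r * k⁻¹ with hu
    have huR : u ∈ R := (inferInstance : R.Normal).conj_mem r hr k
    set z2 := ⁅b, u⁆ with hz2
    have hz1c : ∀ c ∈ R ⊔ B, z1 * c = c * z1 := fun c hc =>
      commutatorElement_eq_one_iff_mul_comm.mp (hc2 b⁻¹ (hBT (inv_mem hb)) r (hRT hr) c hc)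
    have h1 : b * k * b⁻¹ * r * (b * k * b⁻¹)⁻¹ = z1 * z2 * u := by
      have hzk : z1 * k = k * z1 := hz r hr _ (inv_mem hb) k hk
      have e1 : b⁻¹ * r * b = z1 * r := by rw [hz1, commutatorElement_def]; group
      have e2 : b * u * b⁻¹ = z2 * u := by rw [hz2, commutatorElement_def]; group
      calc b * k * b⁻¹ * r * (b * k * b⁻¹)⁻¹ = b * (k * (b⁻¹ * r * b) * k⁻¹) * b⁻¹ := by group
        _ = b * (z1 * u) * b⁻¹ := by rw [e1, hu, ← mul_assoc k, ← hzk]; group
        _ = z1 * (b * u * b⁻¹) := by rw [← mul_assoc b, ← hz1c b (hBT hb)]; group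
        _ = z1 * z2 * u := by rw [e2, mul_assoc]
    set w := z1 * z2 with hw
    have hwK : ∀ g ∈ K, w * g = g * w := fun g hg => by
      rw [hw, mul_assoc, hz u huR b hb g hg, ← mul_assoc, hz r hr _ (inv_mem hb) g hg, mul_assoc]
    have h2 : d * r * d⁻¹ = w * r := by
      calc d * r * d⁻¹ = k⁻¹ * (b * k * b⁻¹ * r * (b * k * b⁻¹)⁻¹) * k := by rw [hd]; group
        _ = k⁻¹ * (w * u) * k := by rw [h1]
        _ = w * r := by rw [← mul_assoc k⁻¹, ← hwK _ (inv_mem hk), hu]; group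
    have hwd : Commute w d := hwK d hdK
    have h3 : ∀ i : ℕ, d ^ i * r * (d ^ i)⁻¹ = w ^ i * r := by
      intro i
      induction i with
      | zero => simp
      | succ i ih =>
        calc d ^ (i + 1) * r * (d ^ (i + 1))⁻¹ = d * (d ^ i * r * (d ^ i)⁻¹) * d⁻¹ := by
              rw [pow_succ']; group
          _ = d * w ^ i * r * d⁻¹ := by rw [ih]; group
          _ = w ^ i * (d * r * d⁻¹) := by
              rw [← (hwd.pow_left i).eq]; group
          _ = w ^ (i + 1) * r := by rw [h2, ← mul_assoc, pow_succ]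
    have h4 := h3 (orderOf d)
    rw [pow_orderOf_eq_one, one_mul, inv_one, mul_one, right_eq_mul] at h4
    have hw1 : w = 1 := by
      have hwR : w ∈ R := by
        have hz1R : z1 ∈ R := by
          rw [hz1, commutatorElement_def, inv_inv]
          exact mul_mem (by simpa using (inferInstance : R.Normal).conj_mem r hr b⁻¹) (inv_mem hr)
        exact mul_mem hz1R (mul_mem ((inferInstance : R.Normal).conj_mem u huR b) (inv_mem huR))
      obtain ⟨j, hj⟩ := hR ⟨w, hwR⟩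
      exact orderOf_eq_one_iff.mp (Nat.eq_one_of_dvd_coprimes
        ((hK.coprime_dvd_left (Subgroup.orderOf_dvd_natCard _ hdK)).pow_right j)
        (orderOf_dvd_of_pow_eq_one h4) (orderOf_dvd_of_pow_eq_one (congrArg Subtype.val hj)))
    rw [hw1, one_mul] at h2
    exact (mul_inv_eq_iff_eq_mul.mp h2).symm
  rw [Subgroup.eq_bot_iff_forall]
  intro k hk
  refine hone k hk (hCR ?_)
  have hle : Subgroup.zpowers k ≤ K := Subgroup.zpowers_le.mpr hk
  haveI : Group.IsSolvable (Subgroup.zpowers k) := Group.isSolvable_of_comm fun a b => mul_comm' a b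
  have hBk : ⁅B, Subgroup.zpowers k⁆ = ⊥ := by
    rw [Subgroup.commutator_eq_bot_iff_le_centralizer]
    intro b hb
    refine Subgroup.mem_centralizer_iff.mpr fun g hg => ?_
    exact (mul_inv_eq_iff_eq_mul.mp (hcomm g (hle hg) b hb)).symm
  have h : ⁅R, Subgroup.zpowers k⁆ = ⊥ :=
    Coprime.commutator_eq_bot_of_PxQ (P := B) (Q := Subgroup.zpowers k) hB
      (hK.coprime_dvd_left (Subgroup.card_dvd_of_le hle)) hBk _ R rfl hR hBR
      (le_top.trans (Subgroup.normalizer_eq_top R).ge) (by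
        rw [Subgroup.commutator_eq_bot_iff_le_centralizer]
        intro z hz
        exact Subgroup.centralizer_le hle (hfix z hz.1 hz.2))
  exact (Subgroup.le_centralizer_iff.mp (Subgroup.commutator_eq_bot_iff_le_centralizer.mp h))
    (Subgroup.mem_zpowers k)

/-- Invariant `p'`-subgroups of a p-constrained group, class two version. -/
theorem invariant_le_pPrimeCore_classTwo {p : ℕ} [hp : Fact p.Prime] (hcl : ClassTwoLocally p G)
    (hcons : Subgroup.centralizer (pCore p (G ⧸ pPrimeCore p G) : Set (G ⧸ pPrimeCore p G)) ≤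
      pCore p (G ⧸ pPrimeCore p G))
    {B K : Subgroup G} (hB : IsPGroup p B)
    (hBc : ∀ x ∈ Subgroup.centralizer (B : Set G), (∃ k, x ^ p ^ k = 1) → x ∈ B)
    (hK : (Nat.card K).Coprime p) (hBK : B ≤ Subgroup.normalizer (K : Set G)) :
    K ≤ pPrimeCore p G := by
  set O := pPrimeCore p G
  set π := QuotientGroup.mk' O
  set R := pCore p (G ⧸ O)
  have hker : π.ker = O := QuotientGroup.ker_mk' O
  have hK' : (Nat.card (K.map π)).Coprime p := hK.coprime_dvd_left (Subgroup.card_map_dvd K π)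
  have hBK' : B.map π ≤ Subgroup.normalizer (K.map π : Set (G ⧸ O)) :=
    (Subgroup.map_mono hBK).trans (Subgroup.le_normalizer_map π)
  have hfix : ∀ r ∈ R, r ∈ Subgroup.centralizer (B.map π : Set (G ⧸ O)) →
      r ∈ Subgroup.centralizer (K.map π : Set (G ⧸ O)) := by
    intro r hrR hrC
    obtain ⟨g, rfl⟩ := QuotientGroup.mk'_surjective O r
    obtain ⟨k, hk, hkg⟩ := ThompsonComplement.exists_mul_normalizes hB
      (card_pPrimeCore_coprime p G) (g := g) (fun t ht => by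
        have h1 := Subgroup.mem_centralizer_iff.mp hrC (π t) ⟨t, ht, rfl⟩
        have h2 : t⁻¹ * (g * t * g⁻¹) ∈ O := by
          rw [← hker, MonoidHom.mem_ker, map_mul, map_mul, map_mul, map_inv, map_inv, ← h1,
            mul_inv_cancel_right, inv_mul_cancel]
        simpa using Subgroup.mul_mem_sup ht h2)
    set y := k * g
    have hy : π y = π g := by
      rw [map_mul, (MonoidHom.mem_ker (f := π)).mp (hker.symm ▸ hk), one_mul]
    have hyC : y ∈ Subgroup.centralizer (B : Set G) := by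
      rw [Coprime.mem_centralizer_iff_conj]
      intro t ht
      refine mul_inv_eq_one.mp (ThompsonComplement.eq_one_of_mem hB
        (mul_mem ((Subgroup.mem_normalizer_iff.mp hkg t).mp ht) (inv_mem ht))
        ((card_pPrimeCore_coprime p G).coprime_dvd_left (Subgroup.orderOf_dvd_natCard _ ?_)))
      show y * t * y⁻¹ * t⁻¹ ∈ O
      rw [← hker, MonoidHom.mem_ker, map_mul, map_mul, map_mul, map_inv, map_inv, hy,
        ← Subgroup.mem_centralizer_iff.mp hrC (π t) ⟨t, ht, rfl⟩, mul_inv_cancel_right, mul_inv_cancel]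
    obtain ⟨j, hj⟩ : ∃ j, (π g) ^ p ^ j = 1 := by
      obtain ⟨j, hj⟩ := isPGroup_pCore p (G ⧸ O) ⟨π g, hrR⟩
      exact ⟨j, congrArg Subtype.val hj⟩
    obtain ⟨a, m, hm, hord⟩ := Nat.exists_eq_pow_mul_and_not_dvd (orderOf_pos y).ne' p hp.out.ne_one
    obtain ⟨e, he1, he0⟩ := Nat.chineseRemainder
      (show (p ^ j).Coprime m from Nat.Coprime.pow_left j ((Nat.Prime.coprime_iff_not_dvd hp.out).mpr hm)) 1 0
    have hz : π g ∈ B.map π := by
      refine ⟨y ^ e, hBc _ (pow_mem hyC e) ⟨a, ?_⟩, ?_⟩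
      · rw [← pow_mul, ← orderOf_dvd_iff_pow_eq_one, hord, mul_comm (p ^ a)]
        exact Nat.mul_dvd_mul_right (Nat.modEq_zero_iff_dvd.mp he0) _
      · rw [map_pow, hy]
        conv_rhs => rw [← pow_one (π g)]
        exact pow_eq_pow_iff_modEq.mpr (Nat.ModEq.of_dvd (orderOf_dvd_of_pow_eq_one hj) he1)
    rw [Subgroup.mem_centralizer_iff]
    intro κ hκ
    have h1 : κ * π g * κ⁻¹ * (π g)⁻¹ ∈ R :=
      mul_mem ((inferInstance : R.Normal).conj_mem _ hrR κ) (inv_mem hrR)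
    have h2 : κ * π g * κ⁻¹ * (π g)⁻¹ ∈ K.map π := by
      rw [mul_assoc, mul_assoc, ← mul_assoc (π g)]
      exact mul_mem hκ ((Subgroup.mem_normalizer_iff.mp (hBK' hz) κ⁻¹).mp (inv_mem hκ))
    exact mul_inv_eq_iff_eq_mul.mp (mul_inv_eq_one.mp (ThompsonComplement.eq_one_of_mem
      (isPGroup_pCore p _) h1 (hK'.coprime_dvd_left (Subgroup.orderOf_dvd_natCard _ h2))))
  have h := eq_bot_of_classTwo (hcl.quotient O) (isPGroup_pCore p (G ⧸ O)) hcons (hB.map π) hK' hBK' hfix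
  intro x hx
  rw [← hker, MonoidHom.mem_ker]
  exact Subgroup.mem_bot.mp (h ▸ Subgroup.mem_map_of_mem π hx)

/-- In `C(E)`, `E` self-centralizing among `p`-elements, every `p'`-element lies in the `p'`-core. -/
theorem mem_piCoreOf_centralizer {p : ℕ} [hp : Fact p.Prime] {E : Subgroup G} (hEp : IsPGroup p E)
    (hEc : IsMulCommutative E)
    (hEfull : ∀ x ∈ Subgroup.centralizer (E : Set G), IsPGroup p (Subgroup.zpowers x) → x ∈ E)
    {c : G} (hc : c ∈ Subgroup.centralizer (E : Set G)) (hcp : ¬ p ∣ orderOf c) :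
    c ∈ piCoreOf (primesNotDvd p) (Subgroup.centralizer (E : Set G)) := by
  set X := Subgroup.centralizer (E : Set G)
  have hEX : E ≤ X := fun e he => Subgroup.mem_centralizer_iff.mpr fun f hf =>
    congrArg Subtype.val (hEc.is_comm.comm (⟨f, hf⟩ : E) ⟨e, he⟩)
  set P := E.subgroupOf X with hP
  have hcen : ∀ x : X, ∀ e ∈ P, x * e = e * x := fun x e he =>
    Subtype.ext (Subgroup.mem_centralizer_iff.mp x.2 _ he).symm
  haveI hPn : P.Normal := ⟨fun e he x => by rw [hcen x e he, mul_inv_cancel_right]; exact he⟩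
  have hPp : IsPGroup p P := hEp.of_equiv (Subgroup.subgroupOfEquivOfLe hEX).symm
  have hidx : ¬ p ∣ P.index := by
    obtain ⟨S, hS⟩ := hPp.exists_le_sylow
    rw [show P = (S : Subgroup X) from le_antisymm hS fun x hx => ?_]
    · exact S.not_dvd_index
    · refine hEfull x x.2 ?_
      obtain ⟨j, hj⟩ := S.isPGroup' ⟨x, hx⟩
      obtain ⟨i, -, hi⟩ := (Nat.dvd_prime_pow hp.out).mp
        (orderOf_dvd_of_pow_eq_one (congrArg (fun z : (S : Subgroup X) => ((z : X) : G)) hj : (x : G) ^ p ^ j = 1))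
      exact IsPGroup.of_card (n := i) (by rw [Nat.card_zpowers, hi])
  obtain ⟨k, hk⟩ := IsPGroup.iff_card.mp hPp
  have hcop : (Nat.card P).Coprime P.index := by
    rw [hk]
    exact ((Nat.Prime.coprime_iff_not_dvd hp.out).mpr hidx).pow_left k
  obtain ⟨K, hK⟩ := Subgroup.exists_right_complement'_of_coprime hcop
  have hdec : ∀ x : X, ∃ e ∈ P, ∃ y ∈ K, e * y = x := fun x => by
    have h1 : x ∈ P ⊔ K := hK.sup_eq_top ▸ Subgroup.mem_top x
    rw [← SetLike.mem_coe, Subgroup.normal_mul] at h1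
    exact h1
  have hKn : K.Normal := ⟨fun y hy x => by
    obtain ⟨e, he, z, hz, rfl⟩ := hdec x
    rw [show e * z * y * (e * z)⁻¹ = e * (z * y * z⁻¹) * e⁻¹ by group, ← hcen (z * y * z⁻¹) e he,
      mul_inv_cancel_right]
    exact mul_mem (mul_mem hz hy) (inv_mem hz)⟩
  have hKcard : Nat.card K = P.index := by
    have h := hK.card_mul
    rw [← P.card_mul_index] at h
    exact Nat.eq_of_mul_eq_mul_left Nat.card_pos h
  refine ⟨⟨c, hc⟩, le_sSup (show K ∈ {N : Subgroup X | N.Normal ∧ ∀ r : ℕ, r.Prime → r ∣ Nat.card N →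
    r ∈ primesNotDvd p} from ⟨hKn, fun r hr hrd => ⟨hr, fun h => hidx ?_⟩⟩) ?_, rfl⟩
  · rw [← hKcard, ← (Nat.prime_dvd_prime_iff_eq hr hp.out).mp h]; exact hrd
  · obtain ⟨e, he, y, hy, hey⟩ := hdec ⟨c, hc⟩
    have hcomm : Commute e y := (hcen y e he).symm
    have h1 : e ^ (orderOf c * Nat.card K) = 1 := by
      have h2 : (e * y) ^ (orderOf c * Nat.card K) = 1 := by
        rw [hey, pow_mul, show (⟨c, hc⟩ : X) ^ orderOf c = 1 from Subtype.ext (pow_orderOf_eq_one c), one_pow]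
      rw [hcomm.mul_pow] at h2
      rwa [show y ^ (orderOf c * Nat.card K) = 1 by
        rw [mul_comm, pow_mul, show y ^ Nat.card K = 1 from
          congrArg Subtype.val (pow_card_eq_one' (x := (⟨y, hy⟩ : K))), one_pow], mul_one] at h2
    obtain ⟨j, hj⟩ := hPp ⟨e, he⟩
    have he1 : e = 1 := orderOf_eq_one_iff.mp (Nat.eq_one_of_dvd_coprimes
      (((Nat.Prime.coprime_iff_not_dvd hp.out).mpr fun h => (hp.out.dvd_mul.mp h).elim hcp
        (hKcard ▸ hidx)).pow_left j)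
      (orderOf_dvd_of_pow_eq_one (congrArg Subtype.val hj)) (orderOf_dvd_of_pow_eq_one h1))
    rw [← hey, he1, one_mul]
    exact hy

/-- The `p'`-core of the normalizer of `⟨a⟩`, as a subgroup of `G`. -/
def locCore (p : ℕ) (a : G) : Subgroup G :=
  (pPrimeCore p (Subgroup.normalizer (Subgroup.zpowers a : Set G))).map
    (Subgroup.normalizer (Subgroup.zpowers a : Set G)).subtype

theorem not_dvd_card_locCore (p : ℕ) [Fact p.Prime] (a : G) : ¬ p ∣ Nat.card (locCore p a) := by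
  rw [locCore, card_map_subtype]
  exact not_dvd_card_pPrimeCore p _

theorem locCore_le_centralizer {p : ℕ} [hp : Fact p.Prime] {a : G} (ha : a ^ p = 1) :
    locCore p a ≤ Subgroup.centralizer ({a} : Set G) := by
  set N := Subgroup.normalizer (Subgroup.zpowers a : Set G) with hN
  intro g hg
  obtain ⟨x, hx, rfl⟩ : g ∈ (pPrimeCore p N).map N.subtype := hg
  haveI : ((Subgroup.zpowers a).subgroupOf N).Normal := Subgroup.normal_in_normalizer
  have hdis : Disjoint (pPrimeCore p N) ((Subgroup.zpowers a).subgroupOf N) := by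
    rw [disjoint_iff, Subgroup.eq_bot_iff_forall]
    rintro y ⟨hy1, hy2⟩
    obtain ⟨i, hi⟩ : ∃ i : ℤ, a ^ i = (y : G) := Subgroup.mem_zpowers_iff.mp hy2
    have hyp : (y : G) ^ p = 1 := by
      rw [← hi, ← zpow_natCast, zpow_comm, zpow_natCast, ha, one_zpow]
    exact orderOf_eq_one_iff.mp (Nat.eq_one_of_dvd_coprimes
      ((Nat.Prime.coprime_iff_not_dvd hp.out).mpr (not_dvd_card_pPrimeCore p N))
      (orderOf_dvd_of_pow_eq_one (Subtype.ext (by simpa using hyp)))
      (Subgroup.orderOf_dvd_natCard _ hy1))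
  have h := Subgroup.commute_of_normal_of_disjoint _ _ inferInstance inferInstance hdis x
    ⟨a, Subgroup.le_normalizer (Subgroup.mem_zpowers a)⟩ hx (Subgroup.mem_zpowers a)
  rw [Subgroup.mem_centralizer_iff]
  intro z hz
  rw [Set.mem_singleton_iff.mp hz]
  exact (congrArg Subtype.val h.eq).symm

/-- The local signalizer lemma. -/
theorem le_locCore {p : ℕ} [hp : Fact p.Prime]
    (hloc : ∀ T : Subgroup G, IsPGroup p T → T ≠ ⊥ → IsPConstrained p ↥(Subgroup.normalizer (T : Set G)))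
    (h2 : p = 2 → ClassTwoLocally p G) {E : Subgroup G} (hEp : IsPGroup p E) (hEc : IsMulCommutative E)
    (hEfull : ∀ x ∈ Subgroup.centralizer (E : Set G), IsPGroup p (Subgroup.zpowers x) → x ∈ E)
    {a : G} (ha : a ∈ E) (hap : a ^ p = 1) (ha1 : a ≠ 1) {U : Subgroup G} (hU : ¬ p ∣ Nat.card U)
    (hUC : U ≤ Subgroup.centralizer ({a} : Set G)) (hEU : E ≤ Subgroup.normalizer (U : Set G)) :
    U ≤ locCore p a := by
  set N := Subgroup.normalizer (Subgroup.zpowers a : Set G) with hN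
  have hCN : Subgroup.centralizer ({a} : Set G) ≤ N := by
    rw [hN]
    refine le_trans ?_ (Subgroup.centralizer_le_normalizer _)
    intro x hx
    refine Subgroup.mem_centralizer_iff.mpr fun y hy => ?_
    obtain ⟨i, rfl⟩ := Subgroup.mem_zpowers_iff.mp hy
    exact (Commute.zpow_left (show Commute a x from Subgroup.mem_centralizer_iff.mp hx a rfl) i).eq
  have hEN : E ≤ N := fun e he => hCN (Subgroup.mem_centralizer_iff.mpr (by
    rintro _ rfl; exact congrArg Subtype.val (hEc.is_comm.comm (⟨_, ha⟩ : E) ⟨e, he⟩)))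
  have hUN : U ≤ N := hUC.trans hCN
  have hT : IsPGroup p (Subgroup.zpowers a) :=
    IsPGroup.of_card (n := 1) (by rw [Nat.card_zpowers, orderOf_eq_prime hap ha1, pow_one])
  have hcons := PLocal.centralizer_pCore_quotient_le (hloc _ hT fun h => ha1 (Subgroup.zpowers_eq_bot.mp h))
  have hBc : ∀ x ∈ Subgroup.centralizer (E.subgroupOf N : Set N), (∃ k, x ^ p ^ k = 1) → x ∈ E.subgroupOf N := by
    rintro x hx ⟨k, hk⟩
    refine hEfull x (Subgroup.mem_centralizer_iff.mpr fun e he => congrArg Subtype.val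
      (Subgroup.mem_centralizer_iff.mp hx ⟨e, hEN he⟩ he)) ?_
    obtain ⟨j, -, hj⟩ := (Nat.dvd_prime_pow hp.out).mp
      (orderOf_dvd_of_pow_eq_one (congrArg Subtype.val hk : (x : G) ^ p ^ k = 1))
    exact IsPGroup.of_card (n := j) (by rw [Nat.card_zpowers, hj])
  have hB : IsPGroup p (E.subgroupOf N) := hEp.of_equiv (Subgroup.subgroupOfEquivOfLe hEN).symm
  have hK : (Nat.card (U.subgroupOf N)).Coprime p := by
    rw [card_subgroupOf hUN]
    exact ((Nat.Prime.coprime_iff_not_dvd hp.out).mpr hU).symm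
  have hBK : E.subgroupOf N ≤ Subgroup.normalizer (U.subgroupOf N : Set N) := fun e he =>
    Coprime.mem_normalizer_of_conj_mem fun y hy => (Subgroup.mem_normalizer_iff.mp (hEU he) y).mp hy
  have key : U.subgroupOf N ≤ pPrimeCore p N := by
    by_cases hp2 : p = 2
    · exact invariant_le_pPrimeCore_classTwo ((h2 hp2).subgroup N) hcons hB hBc hK hBK
    · exact OddChar.invariant_le_pPrimeCore_of_constrained (hp.out.odd_of_ne_two hp2) hcons hB
        (fun x hx hxp => hBc x hx ⟨1, by rw [pow_one]; exact hxp⟩) hK hBK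
  intro u hu
  exact ⟨⟨u, hUN hu⟩, key (Subgroup.mem_subgroupOf.mpr hu), rfl⟩

/-- **Thompson's transitivity theorem**. -/
theorem transitivity {p : ℕ} [hp : Fact p.Prime]
    (hloc : ∀ T : Subgroup G, IsPGroup p T → T ≠ ⊥ → IsPConstrained p ↥(Subgroup.normalizer (T : Set G)))
    (h2 : p = 2 → ClassTwoLocally p G) {E : Subgroup G} (hEp : IsPGroup p E) (hEc : IsMulCommutative E)
    (hEfull : ∀ x ∈ Subgroup.centralizer (E : Set G), IsPGroup p (Subgroup.zpowers x) → x ∈ E)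
    {A : Subgroup G} (hA : IsElementaryAbelian p A) (hAE : A ≤ E) (hA3 : p ^ 3 ≤ Nat.card A)
    {q : ℕ} [hq : Fact q.Prime] (hqp : q ≠ p) :
    ∀ (n : ℕ) (Q₁ Q₂ : Subgroup G), Q₁ ∈ maxInvSubgroups ⊤ E {q} → Q₂ ∈ maxInvSubgroups ⊤ E {q} →
      Nat.card G - Nat.card ↥(Q₁ ⊓ Q₂) = n →
      ∃ k ∈ piCoreOf (primesNotDvd p) (Subgroup.centralizer (E : Set G)),
        Q₁.map (MulAut.conj k).toMonoidHom = Q₂ := by
  have hpg : ∀ {Q : Subgroup G}, Q ∈ invSubgroups ⊤ E {q} → IsPGroup q Q := fun {Q} hQ =>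
    IsPGroup.of_card (n := (Nat.card Q).primeFactorsList.length)
      (Nat.eq_prime_pow_of_unique_prime_dvd Nat.card_pos.ne' fun {r} hr hrd => hQ.2.1 r hr hrd)
  have hinv : ∀ {S : Subgroup G}, IsPGroup q S → E ≤ Subgroup.normalizer (S : Set G) →
      S ∈ invSubgroups ⊤ E {q} := fun {S} hS hES => ⟨le_top, fun r hr hrd => by
    obtain ⟨k, hk⟩ := IsPGroup.iff_card.mp hS
    rw [hk] at hrd
    exact (Nat.prime_dvd_prime_iff_eq hr hq.out).mp (hr.dvd_of_dvd_pow hrd), hES⟩
  have hnp : ∀ {S : Subgroup G}, IsPGroup q S → ¬ p ∣ Nat.card S := fun {S} hS hd => by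
    obtain ⟨k, hk⟩ := IsPGroup.iff_card.mp hS
    rw [hk] at hd
    exact hqp ((Nat.prime_dvd_prime_iff_eq hp.out hq.out).mp (hp.out.dvd_of_dvd_pow hd)).symm
  have hmax : ∀ {S : Subgroup G}, IsPGroup q S → E ≤ Subgroup.normalizer (S : Set G) →
      ∃ R ∈ maxInvSubgroups ⊤ E {q}, S ≤ R := fun {S} hS hES => by
    obtain ⟨R, hSR, hR, hRmax⟩ := (Set.toFinite (invSubgroups (⊤ : Subgroup G) E {q})).exists_le_maximal
      (a := S) (hinv hS hES)
    exact ⟨R, ⟨hR, fun R' hR' hle => le_antisymm (hRmax hR' hle) hle⟩, hSR⟩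
  have hconjmax : ∀ {Q : Subgroup G} {k : G}, k ∈ Subgroup.centralizer (E : Set G) →
      Q ∈ maxInvSubgroups ⊤ E {q} → Q.map (MulAut.conj k).toMonoidHom ∈ maxInvSubgroups ⊤ E {q} := by
    have hi : ∀ {Q : Subgroup G} {k : G}, k ∈ Subgroup.centralizer (E : Set G) → Q ∈ invSubgroups ⊤ E {q} →
        Q.map (MulAut.conj k).toMonoidHom ∈ invSubgroups ⊤ E {q} := fun {Q k} hk hQ =>
      hinv ((hpg hQ).map _) fun e he => Coprime.mem_normalizer_of_conj_mem fun y hy => by
        rw [Coprime.map_conj_mem] at hy ⊢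
        have h := Coprime.mem_centralizer_iff_conj.mp hk e he
        have h3 := (Subgroup.mem_normalizer_iff.mp (hQ.2.2 he) _).mp hy
        have hke : Commute k e := mul_inv_eq_iff_eq_mul.mp h
        have e1 : k⁻¹ * (e * y * e⁻¹) * k = e * (k⁻¹ * y * k) * e⁻¹ := by
          calc k⁻¹ * (e * y * e⁻¹) * k = (k⁻¹ * e) * y * (e⁻¹ * k) := by group
            _ = (e * k⁻¹) * y * (k * e⁻¹) := by rw [(hke.inv_left).eq, (hke.inv_right).eq.symm]
            _ = e * (k⁻¹ * y * k) * e⁻¹ := by group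
        rwa [e1]
    intro Q k hk hQ
    refine ⟨hi hk hQ.1, fun R hR hle => ?_⟩
    have h := hQ.2 _ (hi (inv_mem hk) hR) (by
      have h' := Subgroup.map_mono (f := (MulAut.conj k⁻¹).toMonoidHom) hle
      rwa [Components.map_conj_map_conj, inv_mul_cancel, map_one, MulEquiv.toMonoidHom_eq_coe,
        show ((1 : MulAut G) : G →* G) = MonoidHom.id G from rfl, Subgroup.map_id] at h')
    rw [← h, Components.map_conj_map_conj, mul_inv_cancel, map_one, MulEquiv.toMonoidHom_eq_coe,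
      show ((1 : MulAut G) : G →* G) = MonoidHom.id G from rfl, Subgroup.map_id]
  intro n
  induction n using Nat.strong_induction_on with
  | _ n IH =>
    intro Q₁ Q₂ h₁ h₂ hn
    have hid : ∀ Q : Subgroup G, Q.map (MulAut.conj (1 : G)).toMonoidHom = Q := fun Q => by
      rw [map_one, MulEquiv.toMonoidHom_eq_coe,
        show ((1 : MulAut G) : G →* G) = MonoidHom.id G from rfl, Subgroup.map_id]
    by_cases hD₁ : Q₁ ⊓ Q₂ = Q₁
    · exact ⟨1, one_mem _, by rw [hid, h₁.2 Q₂ h₂.1 (inf_eq_left.mp hD₁)]⟩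
    by_cases hD₂ : Q₁ ⊓ Q₂ = Q₂
    · exact ⟨1, one_mem _, by rw [hid]; exact h₂.2 Q₁ h₁.1 (inf_eq_right.mp hD₂)⟩
    obtain ⟨a, ha, ha1, hg₁, hg₂⟩ := Components.exists_common_growth hA hA3 hqp (hpg h₁.1) (hpg h₂.1)
      (hAE.trans h₁.1.2.2) (hAE.trans h₂.1.2.2) hD₁ hD₂
    set D := Q₁ ⊓ Q₂ with hDdef
    have hED : E ≤ Subgroup.normalizer (D : Set G) :=
      (le_inf h₁.1.2.2 h₂.1.2.2).trans Subgroup.inf_normalizer_le_normalizer_inf
    set Y := locCore p a ⊓ Subgroup.normalizer (D : Set G) with hY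
    have hEC : E ≤ Subgroup.centralizer ({a} : Set G) := fun e he => Subgroup.mem_centralizer_iff.mpr (by
      rintro _ rfl; exact congrArg Subtype.val (hEc.is_comm.comm (⟨_, hAE ha⟩ : E) ⟨e, he⟩))
    have hap : a ^ p = 1 := hA.2 a ha
    have hEY : E ≤ Subgroup.normalizer (Y : Set G) := by
      refine (le_inf ?_ (hED.trans Subgroup.le_normalizer)).trans Subgroup.inf_normalizer_le_normalizer_inf
      intro e he
      refine Coprime.mem_normalizer_of_conj_mem ?_
      rintro _ ⟨x, hx, rfl⟩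
      have heN : e ∈ Subgroup.normalizer (Subgroup.zpowers a : Set G) := by
        refine Subgroup.centralizer_le_normalizer _ (Subgroup.mem_centralizer_iff.mpr fun y hy => ?_)
        obtain ⟨i, rfl⟩ := Subgroup.mem_zpowers_iff.mp hy
        exact (Commute.zpow_left (show Commute a e from Subgroup.mem_centralizer_iff.mp (hEC he) a rfl) i).eq
      exact ⟨⟨e, heN⟩ * x * ⟨e, heN⟩⁻¹, (inferInstance : (pPrimeCore p _).Normal).conj_mem x hx _, rfl⟩
    have hcop : (Nat.card E).Coprime (Nat.card Y) := by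
      obtain ⟨k, hk⟩ := IsPGroup.iff_card.mp hEp
      rw [hk]
      refine ((Nat.Prime.coprime_iff_not_dvd hp.out).mpr fun h => ?_).pow_left k
      exact not_dvd_card_locCore p a (h.trans (Subgroup.card_dvd_of_le inf_le_left))
    haveI : Group.IsSolvable E := Coprime.isSolvable_of_isPGroup hEp
    have hDq : IsPGroup q D := (hpg h₁.1).to_le inf_le_left
    have grow : ∀ Q : Subgroup G, Q ∈ maxInvSubgroups ⊤ E {q} →
        ¬ (Subgroup.normalizer (D : Set G) ⊓ Q ⊓ Subgroup.centralizer {a} ≤ D) →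
        ∃ M S : Subgroup G, M ≤ Q ∧ M ≤ S ∧ S ≤ Y ∧ IsPGroup q S ∧ ¬ q ∣ S.relIndex Y ∧
          E ≤ Subgroup.normalizer (S : Set G) ∧ ¬ M ≤ D := by
      intro Q hQ hg
      set M := Subgroup.normalizer (D : Set G) ⊓ Q ⊓ Subgroup.centralizer {a}
      have hEM : E ≤ Subgroup.normalizer (M : Set G) := fun b hb =>
        Coprime.mem_normalizer_of_conj_mem fun x hx => ⟨⟨(Subgroup.mem_normalizer_iff.mp
          ((hED.trans Subgroup.le_normalizer) hb) x).mp hx.1.1, (Subgroup.mem_normalizer_iff.mp (hQ.1.2.2 hb) x).mp hx.1.2⟩,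
          Subgroup.mul_mem _ (Subgroup.mul_mem _ (hEC hb) hx.2) (Subgroup.inv_mem _ (hEC hb))⟩
      have hMq : IsPGroup q M := (hpg hQ.1).to_le (inf_le_left.trans inf_le_right)
      have hMY : M ≤ Y := le_inf (le_locCore hloc h2 hEp hEc hEfull (hAE ha) hap ha1 (hnp hMq) inf_le_right hEM)
        (inf_le_left.trans inf_le_left)
      obtain ⟨S, hMS, hSY, hS, hSi, hSA⟩ := Coprime.exists_invariant_sylow_ge hEY hcop hMY hMq hEM
      exact ⟨M, S, inf_le_left.trans inf_le_right, hMS, hSY, hS, hSi, hSA, hg⟩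
    obtain ⟨M₁, S₁, hM₁Q, hM₁S, hS₁Y, hS₁, hS₁i, hS₁A, hM₁D⟩ := grow Q₁ h₁ hg₁
    obtain ⟨M₂, S₂, hM₂Q, hM₂S, hS₂Y, hS₂, hS₂i, hS₂A, hM₂D⟩ := grow Q₂ h₂ hg₂
    obtain ⟨c, ⟨hcY, hcE⟩, hcS⟩ := Coprime.exists_conj_invariant_sylow hEY hcop hS₁Y hS₂Y hS₁ hS₂
      hS₁i hS₂i hS₁A hS₂A
    have hcK : c ∈ piCoreOf (primesNotDvd p) (Subgroup.centralizer (E : Set G)) :=
      mem_piCoreOf_centralizer hEp hEc hEfull hcE fun h =>
        not_dvd_card_locCore p a (h.trans (Subgroup.orderOf_dvd_natCard _ hcY.1))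
    have mk : ∀ S : Subgroup G, S ≤ Y → IsPGroup q S → E ≤ Subgroup.normalizer (S : Set G) →
        ∃ R ∈ maxInvSubgroups ⊤ E {q}, D ⊔ S ≤ R := fun S hS hSq hSA =>
      hmax (hDq.to_sup_of_normal_left' hSq (hS.trans inf_le_right))
        ((le_inf hED hSA).trans (by
          intro e he
          refine Subgroup.mem_normalizer_iff_map_conj_eq.mpr ?_
          rw [Subgroup.map_sup, Subgroup.mem_normalizer_iff_map_conj_eq.mp he.1,
            Subgroup.mem_normalizer_iff_map_conj_eq.mp he.2]))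
    obtain ⟨R₁, hR₁, hR₁le⟩ := mk S₁ hS₁Y hS₁ hS₁A
    obtain ⟨R₂, hR₂, hR₂le⟩ := mk S₂ hS₂Y hS₂ hS₂A
    have step : ∀ X Z W : Subgroup G, X ∈ maxInvSubgroups ⊤ E {q} → Z ∈ maxInvSubgroups ⊤ E {q} →
        D ≤ X → D ≤ Z → W ≤ X → W ≤ Z → ¬ W ≤ D →
        ∃ d ∈ piCoreOf (primesNotDvd p) (Subgroup.centralizer (E : Set G)),
          X.map (MulAut.conj d).toMonoidHom = Z := by
      intro X Z W hX hZ hDX hDZ hWX hWZ hWD
      refine IH _ ?_ X Z hX hZ rfl
      rw [← hn]
      have hlt : D < X ⊓ Z := lt_of_le_of_ne (le_inf hDX hDZ) fun h => hWD (h ▸ le_inf hWX hWZ)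
      have := Set.ncard_lt_ncard (SetLike.coe_ssubset_coe.mpr hlt) (Set.toFinite _)
      rw [← Nat.card_coe_set_eq, ← Nat.card_coe_set_eq] at this
      have h2 := Subgroup.card_le_card_group (X ⊓ Z)
      simp only [SetLike.coe_sort_coe] at this
      omega
    obtain ⟨c₁, hc₁, e₁⟩ := step Q₁ R₁ M₁ h₁ hR₁ inf_le_left (le_sup_left.trans hR₁le) hM₁Q
      (hM₁S.trans (le_sup_right.trans hR₁le)) hM₁D
    set R₁' := R₁.map (MulAut.conj c).toMonoidHom
    have hR₁' : D ⊔ S₂ ≤ R₁' := by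
      have h := Subgroup.map_mono (f := (MulAut.conj c).toMonoidHom) hR₁le
      have hDc : D.map (MulAut.conj c).toMonoidHom = D := Subgroup.mem_normalizer_iff_map_conj_eq.mp hcY.2
      rw [Subgroup.map_sup, hcS, hDc] at h
      exact h
    obtain ⟨c₂, hc₂, e₂⟩ := step R₁' R₂ M₂ (hconjmax hcE hR₁) hR₂ (le_sup_left.trans hR₁')
      (le_sup_left.trans hR₂le) (hM₂S.trans (le_sup_right.trans hR₁'))
      (hM₂S.trans (le_sup_right.trans hR₂le)) hM₂D
    obtain ⟨c₃, hc₃, e₃⟩ := step R₂ Q₂ M₂ hR₂ h₂ (le_sup_left.trans hR₂le) inf_le_right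
      (hM₂S.trans (le_sup_right.trans hR₂le)) hM₂Q hM₂D
    refine ⟨c₃ * c₂ * c * c₁, mul_mem (mul_mem (mul_mem hc₃ hc₂) hcK) hc₁, ?_⟩
    rw [← e₃, ← e₂, Components.map_conj_map_conj]
    show _ = (R₁.map (MulAut.conj c).toMonoidHom).map _
    rw [Components.map_conj_map_conj, ← e₁, Components.map_conj_map_conj]

end Cfsg.Agent.Core.Transitive
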